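import Groth.Agent.Misc15.MTTorus.MonoClosed
import Groth.Agent.Misc15.MTFin.Pieces2
import Groth.Agent.Reductive.BaseChangeMT
import Groth.Agent.FlatMor2.Chevalley.Approx

/-!
A quasi-compact part of the image of a piece over an affine open of the base is affine.
-/

set_option autoImplicit false
set_option linter.style.haveILetI false
set_option synthInstance.maxHeartbeats 200000
universe u

open CategoryTheory CategoryTheory.Limits MonoidalCategory CartesianMonoidalCategory MonObj AlgebraicGeometry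
open Groth.Reductive Groth.Reductive.FreeDiag Groth.Reductive.MTInt
open Groth.GrassRep (Pt ptMap)

noncomputable section

namespace Groth.Misc15.MTTorus

open Groth.Misc15.SemilocInj Groth.Misc15.TorusDvr Groth.Misc15.HomMT Groth.Misc15.MTSub Groth.Misc15.MTFin

/-- An injective family lands in the locus of monomorphisms. -/
theorem range_subset_of_injF {S : Scheme.{u}} {H G A X : Over S} [GrpObj H] [GrpObj G] (υ : H ⊗ A ⟶ G)
    [IsMonHom (uOf υ)] (c : X ⟶ A) (hi : InjF ((H ◁ c) ≫ υ)) (U : A.left.Opens)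
    (hU : ∀ a, a ∈ U ↔ Mono ((Over.pullback (A.left.fromSpecResidueField a)).map (uOf υ)).left) :
    Set.range c.left ⊆ (U : Set A.left) := by
  rintro _ ⟨x, rfl⟩
  let p := X.left.fromSpecResidueField x
  let Xp : Over S := Over.mk (p ≫ X.hom)
  let jp : Xp ⟶ X := Over.homMk p rfl
  have e : (p ≫ c.left).base (IsLocalRing.closedPoint _) = c.left x := by
    rw [Scheme.Hom.comp_apply, Scheme.fromSpecResidueField_apply]
  have h2 : Mono ((Over.pullback (p ≫ c.left)).map (uOf υ)).left := by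
    rw [mono_map_iff, kerTriv_uOf_iff]
    let d : (Over.map A.hom).obj (Over.mk (p ≫ c.left)) ⟶ Xp := Over.homMk (𝟙 _) (by
      show 𝟙 _ ≫ p ≫ X.hom = (p ≫ c.left) ≫ A.hom
      rw [Category.id_comp, Category.assoc, Over.w c])
    have hd : d ≫ jp ≫ c = pr A (Over.mk (p ≫ c.left)) := Over.OverMorphism.ext (Category.id_comp _)
    rw [← hd, whiskerLeft_comp_assoc, whiskerLeft_comp_assoc]
    exact (hi.comp jp).comp d
  show c.left x ∈ U
  rw [hU, ← e]
  exact (prop_map_fieldPoint_iff (uOf υ) (MorphismProperty.monomorphisms Scheme.{u}) _ (p ≫ c.left)).1 h2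

variable {S : Scheme.{u}} {G : Over S} [GrpObj G] {D : Pieces G} (X : Model D)

/-- A quasi-compact part of the image of a piece over an affine open of the base is affine. -/
theorem isAffineOpen_part [IsAffineHom G.hom] [Smooth G.hom] (i : Idx.{u}) (hOk : D.Ok i) {R : Type u} [CommRing R]
    (g : Spec (CommRingCat.of R) ⟶ S) [IsOpenImmersion g]
    (hc : IsCompact ((imgOpen X i ⊓ X.M.hom ⁻¹ᵁ g.opensRange : X.M.left.Opens) : Set X.M.left)) :
    IsAffineOpen (imgOpen X i ⊓ X.M.hom ⁻¹ᵁ g.opensRange) := by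
  classical
  haveI : IsAffineHom (Red.bc g G).hom := MorphismProperty.pullback_snd (P := @IsAffineHom) _ _ inferInstance
  haveI : IsAffine (Red.bc g G).left := isAffine_of_isAffineHom (Red.bc g G).hom
  haveI : Smooth (Red.bc g G).hom := MorphismProperty.pullback_snd (P := @Smooth) _ _ inferInstance
  haveI : Algebra.Smooth R (Ob (Red.bc g G)) := by
    have h : Smooth (Spec.map (CommRingCat.ofHom (algebraMap R (Ob (Red.bc g G))))) := by
      rw [← isoSpec_inv_hom]; infer_instance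
    exact RingHom.smooth_algebraMap.1 ((HasRingHomProperty.Spec_iff (P := @Smooth)).1 h)
  haveI : Algebra.FinitePresentation R (Ob (Red.bc g G)) := Algebra.Smooth.finitePresentation
  obtain ⟨F⟩ := exists_finComod (R := R) (A := Ob (Red.bc g G))
  let τ := dsChart (M := i.Λ) g
  let W₀ : (D.P i).left.Opens := (D.P i).hom ⁻¹ᵁ g.opensRange
  let k : (W₀ : Scheme.{u}) ⟶ Spec (CommRingCat.of R) := IsOpenImmersion.lift g (W₀.ι ≫ (D.P i).hom) (by
    rintro _ ⟨y, rfl⟩
    exact y.2)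
  have hk : k ≫ g = W₀.ι ≫ (D.P i).hom := IsOpenImmersion.lift_fac _ _ _
  let Wg : Over (Spec (CommRingCat.of R)) := Over.mk k
  let iW : (Over.map g).obj Wg ⟶ D.P i := Over.homMk W₀.ι hk.symm
  haveI : Mono iW := (Over.forget S).mono_of_mono_map (inferInstanceAs (Mono W₀.ι))
  let φ : D.H i ⊗ (Over.map g).obj Wg ⟶ G := (D.H i ◁ iW) ≫ D.υ i
  have hφ := isHomFamily_whisker (D.hom i) iW
  obtain ⟨a, ⟨-, ha⟩, -⟩ := existsUnique_classify F τ (toX₀ Wg) (toT g φ) ((isHomFamily_toT_iff g φ).2 hφ)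
  let π' : Wg ⟶ Pt (invRing F) := a ≫ fst _ _ ≫ invMap F
  let Q : X.M.left.Opens := imgOpen X i ⊓ X.M.hom ⁻¹ᵁ g.opensRange
  have hqr : Set.range (W₀.ι ≫ (chart X i).left) ⊆ Set.range Q.ι := by
    rw [Scheme.Opens.range_ι]
    rintro _ ⟨y, rfl⟩
    refine ⟨⟨W₀.ι y, rfl⟩, ?_⟩
    show X.M.hom ((W₀.ι ≫ (chart X i).left) y) ∈ g.opensRange
    rw [← Scheme.Hom.comp_apply, Category.assoc, Over.w (chart X i)]
    exact y.2
  let q : (W₀ : Scheme.{u}) ⟶ (Q : Scheme.{u}) := IsOpenImmersion.lift Q.ι (W₀.ι ≫ (chart X i).left) hqr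
  have hq : q ≫ Q.ι = W₀.ι ≫ (chart X i).left := IsOpenImmersion.lift_fac _ _ _
  haveI : Etale q := by
    haveI : Etale (q ≫ Q.ι) := by rw [hq]; infer_instance
    exact MorphismProperty.of_postcomp (W := @Etale) (W' := @IsOpenImmersion) _ Q.ι inferInstance inferInstance
  haveI : Surjective q := ⟨fun m => by
    obtain ⟨y, hy⟩ := m.2.1
    have hyW : y ∈ W₀ := by
      show (D.P i).hom y ∈ g.opensRange
      rw [← Over.w (chart X i), Scheme.Hom.comp_apply, hy]
      exact m.2.2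
    refine ⟨⟨y, hyW⟩, Q.ι.isOpenEmbedding.injective ?_⟩
    rw [← Scheme.Hom.comp_apply, hq]
    exact hy⟩
  -- the invariant is constant on the fibres of the chart
  have hinv : ∀ {Z : Scheme.{u}} (g₁ g₂ : Z ⟶ (W₀ : Scheme.{u})), g₁ ≫ q = g₂ ≫ q →
      g₁ ≫ π'.left = g₂ ≫ π'.left := by
    intro Z g₁ g₂ h12
    have h12' : (g₁ ≫ W₀.ι) ≫ (chart X i).left = (g₂ ≫ W₀.ι) ≫ (chart X i).left := by
      simp only [Category.assoc, ← hq, reassoc_of% h12]
    have hk12 : g₂ ≫ k = g₁ ≫ k := by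
      rw [← cancel_mono g, Category.assoc, Category.assoc, hk, ← Over.w (chart X i), ← Category.assoc,
        ← Category.assoc, ← h12', Category.assoc, Category.assoc]
    let Zr : Over (Spec (CommRingCat.of R)) := Over.mk (g₁ ≫ k)
    let z₁ : Zr ⟶ Wg := Over.homMk g₁ rfl
    let z₂ : Zr ⟶ Wg := Over.homMk g₂ hk12
    suffices h : z₁ ≫ π' = z₂ ≫ π' from congrArg CommaMorphism.left h
    have hch : ((Over.map g).map z₁ ≫ iW) ≫ chart X i = ((Over.map g).map z₂ ≫ iW) ≫ chart X i :=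
      Over.OverMorphism.ext h12'
    choose W' e hz hW' using exists_local_iso X ((Over.map g).map z₁ ≫ iW) ((Over.map g).map z₂ ≫ iW) hch
    refine Over.OverMorphism.ext (Scheme.Cover.hom_ext (Scheme.openCoverOfIsOpenCover _ W' (.mk (top_unique
      fun z _ => TopologicalSpace.Opens.mem_iSup.mpr ⟨z, hz z⟩))) _ _ fun z => ?_)
    let n : Over (Spec (CommRingCat.of R)) := Over.mk ((W' z).ι ≫ g₁ ≫ k)
    let ν : n ⟶ Zr := Over.homMk (W' z).ι rfl
    suffices h : (ν ≫ z₁) ≫ a ≫ fst _ _ ≫ invMap F = (ν ≫ z₂) ≫ a ≫ fst _ _ ≫ invMap F from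
      congrArg CommaMorphism.left (((Category.assoc _ _ _).symm.trans h).trans (Category.assoc _ _ _))
    have hfam : ∀ v : n ⟶ Wg, (Red.bc g (D.H i) ◁ (v ≫ a)) ≫ upsilon F τ =
        toT g ((D.H i ◁ ((Over.map g).map v ≫ iW)) ≫ D.υ i) := fun v => by
      rw [whiskerLeft_comp_assoc, ha, ← toT_comp, whiskerLeft_comp_assoc]
    rw [← Category.assoc, ← Category.assoc (ν ≫ z₂)]
    refine invMap_eq_of_dsFam g F ((ν ≫ z₁) ≫ a) ((ν ≫ z₂) ≫ a) (hfam _) (hfam _) (e z) ?_
    have h1 : (Over.map g).map (ν ≫ z₁) ≫ iW = ((Over.map g).map (ν ≫ z₂) ≫ iW) ≫ D.σ ⟨i, i, e z⟩ := by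
      refine Over.OverMorphism.ext ?_
      have := congrArg CommaMorphism.left (hW' z)
      simp only [Over.comp_left, Category.assoc] at this ⊢
      exact this.symm
    rw [h1, whiskerLeft_comp_assoc, D.σ_spec', whiskerLeft_dsFam]
  haveI : EffectiveEpi q := effectiveEpi_of_qcCover q fun V hV =>
    Groth.Pi1Desc.IsCover.exists_isCompact_image_eq q hV
  let ψ : (Q : Scheme.{u}) ⟶ (Pt (invRing F)).left := EffectiveEpi.desc q π'.left fun g₁ g₂ h => hinv g₁ g₂ h
  have hψ : q ≫ ψ = π'.left := EffectiveEpi.fac q π'.left _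
  haveI : CompactSpace (Q : Scheme.{u}) := isCompact_iff_compactSpace.1 hc
  -- finitely many charts and their weights
  have hpt : ∀ m : (Q : Scheme.{u}), ∃ (B : CommAlgCat.{u} R) (z : Pt B ⟶ Wg) (E : Finset (Chr τ)),
      IsOpenImmersion z.left ∧ m ∈ q '' Set.range z.left ∧
      InE F (phiOf F τ (z ≫ a ≫ fst _ _)) (E : Set (Chr τ)) := fun m => by
    obtain ⟨y, hy⟩ := q.surjective m
    obtain ⟨O, hO, hyO, -⟩ := exists_isAffineOpen_mem_and_subset
      (U := (⊤ : (W₀ : Scheme.{u}).Opens)) (show y ∈ (⊤ : (W₀ : Scheme.{u}).Opens) from trivial)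
    let Z : Over (Spec (CommRingCat.of R)) := Over.mk (O.ι ≫ k)
    haveI : IsAffine Z.left := hO
    obtain ⟨B, ⟨e⟩⟩ := Groth.GrassRep.exists_pt_iso Z
    let z : Pt B ⟶ Wg := e.hom ≫ Over.homMk O.ι rfl
    obtain ⟨E, hE⟩ := exists_finset_inE F (phiOf F τ (z ≫ a ≫ fst _ _))
    haveI : IsIso e.hom.left := inferInstanceAs (IsIso ((Over.forget _).map e.hom))
    refine ⟨B, z, E, inferInstanceAs (IsOpenImmersion (e.hom.left ≫ O.ι)), ⟨y, ?_, hy⟩, hE⟩
    obtain ⟨w, hw⟩ := e.hom.left.surjective (⟨y, hyO⟩ : (O : Scheme.{u}))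
    exact ⟨w, (Scheme.Hom.comp_apply _ _ _).trans (congrArg O.ι hw)⟩
  choose B z E hz hmz hE using hpt
  obtain ⟨Fs, hFs⟩ := (CompactSpace.isCompact_univ (X := (Q : Scheme.{u}))).elim_finite_subcover
    (fun m => q '' Set.range (z m).left)
    (fun m => q.isOpenMap _ (haveI := hz m; (z m).left.isOpenEmbedding.isOpen_range))
    fun m _ => Set.mem_iUnion.2 ⟨m, hmz m⟩
  let E₀ : Finset (Chr τ) := Fs.biUnion E
  let u := uData F E₀
  let A : Over S := (Over.map g).obj (Pt (CommAlgCat.of R u.W))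
  haveI := isMonHom_uOf (isHomFamily_famS g F u.fam)
  haveI : IsSeparated (Red.bc A.hom G).hom :=
    MorphismProperty.pullback_snd (P := @IsSeparated) _ _ inferInstance
  obtain ⟨U, hU, hmono⟩ := exists_open_monoLocus (u := uOf (famS g F u.fam))
    (isMultTypeFT_bc (isMultTypeFT_DS inferInstance) A.hom)
  haveI : IsClosedImmersion U.ι := by
    haveI : IsImmersion U.ι := inferInstance
    exact IsClosedImmersion.of_isPreimmersion U.ι (by
      rw [Scheme.Opens.range_ι]; exact isClosed_monoLocus_famS g F u.fam inferInstance u.supp U hU)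
  let UR : Over (Spec (CommRingCat.of R)) := Over.mk (U.ι ≫ (Pt (CommAlgCat.of R u.W)).hom)
  let iU : UR ⟶ Pt (CommAlgCat.of R u.W) := Over.homMk U.ι rfl
  have hinjU : InjF ((D.H i ◁ (Over.map g).map iU) ≫ famS g F u.fam) := by
    have h := (kerTriv_uOf_iff (famS g F u.fam) (Over.mk U.ι)).1 ((mono_map_iff U.ι).1 hmono)
    let c : (Over.map g).obj UR ⟶ (Over.map A.hom).obj (Over.mk U.ι) := Over.homMk (𝟙 _) (by
      exact (Category.id_comp _).trans (Category.assoc _ _ _).symm)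
    have hcU : c ≫ pr A (Over.mk U.ι) = (Over.map g).map iU := Over.OverMorphism.ext (Category.id_comp _)
    rw [← hcU, whiskerLeft_comp_assoc]
    exact h.comp c
  obtain ⟨b, hb, -⟩ := D.classify i hOk _ _ (isHomFamily_whisker (isHomFamily_famS g F u.fam) _) hinjU
  have hbW : Set.range b.left ⊆ Set.range W₀.ι := by
    rw [Scheme.Opens.range_ι]
    rintro _ ⟨y, rfl⟩
    show (D.P i).hom (b.left y) ∈ g.opensRange
    rw [← Scheme.Hom.comp_apply, Over.w b]
    exact ⟨_, (Scheme.Hom.comp_apply _ g y).symm⟩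
  let bR : UR ⟶ Wg := Over.homMk (IsOpenImmersion.lift W₀.ι b.left hbW) (by
    rw [← cancel_mono g, Category.assoc]
    show _ ≫ k ≫ g = _
    rw [hk, IsOpenImmersion.lift_fac_assoc]
    exact Over.w b)
  have hbR : (Over.map g).map bR ≫ iW = b := Over.OverMorphism.ext (IsOpenImmersion.lift_fac _ _ _)
  have hba : bR ≫ a = iU ≫ aFam g F u.fam := by
    obtain ⟨_, -, huniq⟩ := existsUnique_classify F τ (toX₀ UR) (toT g ((D.H i ◁ b) ≫ D.υ i))
      ((isHomFamily_toT_iff g _).2 (isHomFamily_whisker (D.hom i) b))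
    refine (huniq _ ⟨eq_toX₀ _, ?_⟩).trans (huniq _ ⟨eq_toX₀ _, ?_⟩).symm
    · rw [whiskerLeft_comp_assoc, ha, ← toT_comp, ← whiskerLeft_comp_assoc, hbR]
    · rw [whiskerLeft_comp_assoc, ← toT_famS, ← toT_comp, hb]
  let f : (U : Scheme.{u}) ⟶ (Q : Scheme.{u}) := bR.left ≫ q
  haveI : IsAffine A.left := inferInstanceAs (IsAffine (Spec (CommRingCat.of u.W)))
  haveI : IsAffine (U : Scheme.{u}) := isAffine_of_isAffineHom U.ι
  haveI : IsFinite (f ≫ ψ) := by
    have e1 : bR ≫ π' = iU ≫ ptMap (CommAlgCat.ofHom (cmap (genA F) u.Φ)) := by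
      simp only [π', ← Category.assoc bR, hba, aFam, Category.assoc, lift_fst_assoc]
      congr 1
      exact invMap_spec F (CommAlgCat.of R u.W) ⟨u.Φ, u.fam⟩
    have e2 : f ≫ ψ = U.ι ≫ (ptMap (CommAlgCat.ofHom (cmap (genA F) u.Φ))).left := by
      show (bR.left ≫ q) ≫ ψ = _
      rw [Category.assoc, hψ]
      exact congrArg CommaMorphism.left e1
    haveI : IsFinite (ptMap (CommAlgCat.ofHom (cmap (genA F) u.Φ))).left :=
      (IsFinite.SpecMap_iff _).2 (finite_cmap F E₀)
    rw [e2]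
    infer_instance
  haveI : (Q : Scheme.{u}).IsSeparated := by
    haveI := X.isSeparated_M (inferInstanceAs (IsAffineHom G.hom))
    let r : (Q : Scheme.{u}) ⟶ Spec (CommRingCat.of R) := IsOpenImmersion.lift g (Q.ι ≫ X.M.hom) (by
      rintro _ ⟨y, rfl⟩
      exact y.2.2)
    have hr : r ≫ g = Q.ι ≫ X.M.hom := IsOpenImmersion.lift_fac _ _ _
    haveI : IsSeparated (r ≫ g) := by rw [hr]; infer_instance
    haveI : IsSeparated r := IsSeparated.of_comp r g
    exact ⟨by rw [← terminal.comp_from r]; infer_instance⟩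
  haveI : IsSeparated ψ := by
    haveI : IsSeparated (ψ ≫ terminal.from _) := by rw [terminal.comp_from]; infer_instance
    exact IsSeparated.of_comp ψ (terminal.from _)
  haveI : UniversallyClosed f := by
    haveI : UniversallyClosed (f ≫ ψ) := inferInstance
    exact UniversallyClosed.of_comp_of_isSeparated f ψ
  haveI : Surjective f := ⟨fun m => by
    obtain ⟨x, hx, hm⟩ := Set.mem_iUnion₂.1 (hFs (Set.mem_univ m))
    obtain ⟨_, ⟨w, rfl⟩, hwm⟩ := hm
    have hsupp : Supp (genA F) (phiOf F τ (z x ≫ a ≫ fst _ _)) E₀ := fun j c hc =>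
      InE.supp F (hE x) j c fun h => hc (Finset.mem_biUnion.2 ⟨x, hx, h⟩)
    obtain ⟨κ, hκ, -⟩ := u.univ (B x) _ (isFam_phiOf F τ _) hsupp
    beta_reduce at hκ
    let c : Pt (B x) ⟶ Pt (CommAlgCat.of R u.W) := ptMap (CommAlgCat.ofHom κ)
    have hca : c ≫ aFam g F u.fam = z x ≫ a := by
      ext1
      · rw [Category.assoc, aFam, lift_fst, Category.assoc]
        refine phiOf_injective F τ ?_
        rw [← hκ, show c ≫ eqvHomS F (CommAlgCat.of R u.W) ⟨u.Φ, u.fam⟩ =
          eqvHomS F (B x) ⟨_, u.fam.map κ⟩ from (eqvHomS_comp F (CommAlgCat.ofHom κ) ⟨u.Φ, u.fam⟩).symm]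
        exact phiOf_eqv F τ _
      · exact (eq_toX₀ _).trans (eq_toX₀ _).symm
    have hcfam : (D.H i ◁ (Over.map g).map c) ≫ famS g F u.fam =
        (D.H i ◁ ((Over.map g).map (z x) ≫ iW)) ≫ D.υ i := by
      rw [← toS_toT g ((D.H i ◁ (Over.map g).map c) ≫ famS g F u.fam), toT_comp, toT_famS,
        ← whiskerLeft_comp_assoc, hca, whiskerLeft_comp_assoc, ha, ← toT_comp, toS_toT, whiskerLeft_comp_assoc]
    have hcU := range_subset_of_injF (famS g F u.fam) ((Over.map g).map c)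
      (by rw [hcfam]; exact (D.inj i).comp _) U hU
    let cR : Pt (B x) ⟶ UR := Over.homMk (IsOpenImmersion.lift U.ι c.left (by rwa [Scheme.Opens.range_ι])) (by
      show _ ≫ U.ι ≫ _ = _
      rw [IsOpenImmersion.lift_fac_assoc]
      exact Over.w c)
    have hcR : cR ≫ iU = c := Over.OverMorphism.ext (IsOpenImmersion.lift_fac _ _ _)
    have hcb : (Over.map g).map (cR ≫ bR) = (Over.map g).map (z x) := by
      rw [← cancel_mono iW]
      refine D.eq_of_family ?_
      rw [Functor.map_comp, Category.assoc, hbR, whiskerLeft_comp_assoc, hb, ← whiskerLeft_comp_assoc,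
        ← Functor.map_comp, hcR, hcfam]
    have hl : cR.left ≫ bR.left = (z x).left := congrArg CommaMorphism.left hcb
    refine ⟨cR.left w, ?_⟩
    show (bR.left ≫ q) (cR.left w) = m
    rw [Scheme.Hom.comp_apply, ← Scheme.Hom.comp_apply cR.left, hl]
    exact hwm⟩
  exact Groth.FlatMor2.Chevalley.isAffine_of_universallyClosed_surjective f

end Groth.Misc15.MTTorus
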