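import Groth.Agent.Misc15.HomMT.Scheme

/-!
Triviality of a family of homomorphisms on a quotient of the character group, for families with bounded
weights.
-/

set_option autoImplicit false
set_option linter.style.haveILetI false
set_option linter.unusedSectionVars false

universe u

open TensorProduct
open Groth.Misc15.HomMT

noncomputable section

namespace Groth.Misc15.MTTorus

variable {R : Type u} [CommRing R] {A : Type u} [CommRing A] [Bialgebra R A]
  {G G' : Type} [CommGroup G] [CommGroup G'] {B C : Type u} [CommRing B] [Algebra R B] [CommRing C] [Algebra R C]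

/-- A family is trivial. -/
def TrivFam (Φ : A →ₐ[R] MonoidAlgebra B G) : Prop :=
  Φ = (Algebra.ofId R (MonoidAlgebra B G)).comp (Bialgebra.counitAlgHom R A)

/-- The family induced on a quotient of the character group. -/
abbrev pushFam (π : G →* G') (Φ : A →ₐ[R] MonoidAlgebra B G) : A →ₐ[R] MonoidAlgebra B G' :=
  (MonoidAlgebra.mapDomainAlgHom R B π).comp Φ

theorem mapDomainAlgHom_eq_ev (π : G →* G') :
    (MonoidAlgebra.mapDomainAlgHom R B π : MonoidAlgebra B G →ₐ[R] _) =
      ev MonoidAlgebra.singleOneAlgHom ((MonoidAlgebra.of B G').comp π) := by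
  rw [← ev_comp_mapDomain, ev_of, AlgHom.id_comp]

theorem mapAlgHom_pushFam (π : G →* G') (Φ : A →ₐ[R] MonoidAlgebra B G) (f : B →ₐ[R] C) :
    (MonoidAlgebra.mapAlgHom G' f).comp (pushFam π Φ) = pushFam π ((MonoidAlgebra.mapAlgHom G f).comp Φ) := by
  rw [pushFam, pushFam, ← AlgHom.comp_assoc, ← AlgHom.comp_assoc]
  congr 1
  exact MonoidAlgebra.algHom_ext (fun g => by simp) (AlgHom.ext fun b => by simp)

theorem isFam_pushFam {Φ : A →ₐ[R] MonoidAlgebra B G} (hΦ : IsFam Φ) (π : G →* G') : IsFam (pushFam π Φ) := by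
  refine isFam_of_points _ ?_ ?_
  · simp only [pushFam, ← AlgHom.comp_assoc, ev_comp_mapDomain, MonoidHom.mul_comp]
    exact hΦ.ev_mul _ _ _
  · rw [pushFam, ← AlgHom.comp_assoc, ev_comp_mapDomain, MonoidHom.one_comp]
    exact hΦ.ev_one _

variable [Algebra.FinitePresentation R A] (F : FinComod R A)

theorem inE_one_iff {Φ : A →ₐ[R] MonoidAlgebra B G} (hΦ : IsFam Φ) :
    InE F Φ ({1} : Set G) ↔ TrivFam Φ := by
  constructor
  · intro h
    refine algHom_ext_gen (genA F) (adjoin_genA F) fun i => MonoidAlgebra.ext (Finsupp.ext fun g => ?_)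
    have hg : ∀ g ∉ ({1} : Finset G), cf Φ g (genA F i) = 0 := fun g hg =>
      h.cf_toA F (by simpa using hg) (genV F i)
    rw [AlgHom.comp_apply, Algebra.ofId_apply, MonoidAlgebra.coe_algebraMap]
    simp only [Function.comp_apply, MonoidAlgebra.coeff_single]
    by_cases h1 : g = 1
    · subst h1
      rw [Finsupp.single_eq_same, ← cf_apply]
      have h2 := hΦ.sum_cf (genA F i) {1} hg
      rw [Finset.sum_singleton] at h2
      exact h2
    · rw [Finsupp.single_eq_of_ne h1, ← cf_apply]
      exact hg g (by simpa using h1)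
  · intro h g hg
    have h0 : cf Φ g = 0 := LinearMap.ext fun a => by
      rw [cf_apply, h, AlgHom.comp_apply, Algebra.ofId_apply, MonoidAlgebra.coe_algebraMap]
      simp only [Function.comp_apply, MonoidAlgebra.coeff_single, LinearMap.zero_apply]
      exact Finsupp.single_eq_of_ne (fun h => hg h)
    rw [proj, h0]
    ext
    simp

open scoped Classical in
/-- The differences of a finite set of characters together with the trivial one. -/
def diffs (E : Finset G) : Finset G :=
  ((insert 1 E) ×ˢ (insert 1 E)).image fun p => p.1⁻¹ * p.2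

theorem mapDomain_eq_of_le {G₁ G₂ : Type} {β : Type u} [AddCommMonoid β] (f : G → G₁) (f' : G → G₂) (s : Set G)
    (x y : G →₀ β) (hx : (x.support : Set G) ⊆ s) (hy : (y.support : Set G) ⊆ s)
    (hs : ∀ a ∈ s, ∀ b ∈ s, f a = f b → f' a = f' b) (h : Finsupp.mapDomain f x = Finsupp.mapDomain f y) :
    Finsupp.mapDomain f' x = Finsupp.mapDomain f' y := by
  classical
  let ρ : G₁ → G₂ := fun q => if hq : ∃ a ∈ s, f a = q then f' hq.choose else f' 1
  have hρ : ∀ z : G →₀ β, (z.support : Set G) ⊆ s →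
      Finsupp.mapDomain ρ (Finsupp.mapDomain f z) = Finsupp.mapDomain f' z := fun z hz => by
    rw [← Finsupp.mapDomain_comp]
    refine Finsupp.mapDomain_congr fun a ha => ?_
    have hq : ∃ b ∈ s, f b = f a := ⟨a, hz ha, rfl⟩
    simp only [Function.comp_apply, ρ, dif_pos hq]
    exact hs _ hq.choose_spec.1 _ (hz ha) hq.choose_spec.2
  rw [← hρ x hx, ← hρ y hy, h]

theorem trivFam_pushFam_closure {E : Finset G} {Φ : A →ₐ[R] MonoidAlgebra B G} (hs : Supp (genA F) Φ E)
    (N : Subgroup G) (h : TrivFam (pushFam (QuotientGroup.mk' N) Φ)) (s : Set G)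
    (hsD : ∀ d ∈ diffs E, d ∈ N → d ∈ s) :
    TrivFam (pushFam (QuotientGroup.mk' (Subgroup.closure s)) Φ) := by
  classical
  refine algHom_ext_gen (genA F) (adjoin_genA F) fun i => ?_
  have h1 := AlgHom.congr_fun h (genA F i)
  simp only [pushFam, AlgHom.comp_apply, Algebra.ofId_apply, MonoidAlgebra.coe_algebraMap, Function.comp_apply,
    MonoidAlgebra.mapDomainAlgHom_apply] at h1 ⊢
  have h2 := congrArg MonoidAlgebra.coeff h1
  simp only [MonoidAlgebra.coeff_mapDomain, MonoidAlgebra.coeff_single] at h2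
  refine MonoidAlgebra.ext ?_
  simp only [MonoidAlgebra.coeff_mapDomain, MonoidAlgebra.coeff_single]
  set c : B := algebraMap R B (Bialgebra.counitAlgHom R A (genA F i))
  rw [show Finsupp.single (1 : G ⧸ N) c = Finsupp.mapDomain (QuotientGroup.mk' N) (Finsupp.single (1 : G) c) by
    rw [Finsupp.mapDomain_single, map_one]] at h2
  rw [show Finsupp.single (1 : G ⧸ Subgroup.closure s) c =
    Finsupp.mapDomain (QuotientGroup.mk' (Subgroup.closure s)) (Finsupp.single (1 : G) c) by
    rw [Finsupp.mapDomain_single, map_one]]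
  refine mapDomain_eq_of_le _ _ ((insert 1 E : Finset G) : Set G) _ _ (fun g hg => ?_) ?_ (fun a ha b hb hab => ?_) h2
  · by_contra hgE
    exact Finsupp.mem_support_iff.1 hg (hs i g fun h => hgE (Finset.mem_coe.2 (Finset.mem_insert_of_mem h)))
  · exact (Finset.coe_subset.2 Finsupp.support_single_subset).trans (by simp)
  · refine QuotientGroup.eq.2 (Subgroup.subset_closure (hsD _ ?_ (QuotientGroup.eq.1 hab)))
    exact Finset.mem_image.2 ⟨(a, b), Finset.mem_product.2 ⟨ha, hb⟩, rfl⟩

/-- The primes at which the family is trivial on some of finitely many proper quotients form an open set. -/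
theorem isOpen_trivLocus (Φ : A →ₐ[R] MonoidAlgebra B G) (E : Finset G) :
    IsOpen (⋃ s ∈ {s : Finset G | s ⊆ diffs E ∧ Subgroup.closure (s : Set G) ≠ ⊤},
      locus F (pushFam (QuotientGroup.mk' (Subgroup.closure (s : Set G))) Φ) {1}) :=
  isOpen_biUnion fun _ _ => isOpen_locus F _ _

theorem mem_locus_iff {Φ : A →ₐ[R] MonoidAlgebra B G} (hΦ : IsFam Φ) {K : Type u} [Field K] [Algebra R K]
    (f : B →ₐ[R] K) :
    PrimeSpectrum.comap f.toRingHom ⊥ ∈ locus F Φ {1} ↔ TrivFam ((MonoidAlgebra.mapAlgHom G f).comp Φ) := by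
  rw [← inE_one_iff F (hΦ.map f), inE_map_iff F hΦ]
  constructor
  · rintro h _ ⟨q, rfl⟩
    rwa [Subsingleton.elim q ⊥]
  · exact fun h => h ⟨⊥, rfl⟩

end Groth.Misc15.MTTorus
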