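import Groth.Agent.Misc15.MTTorus.GrpIso
import Groth.Agent.Reductive.TorusConjEtale

/-!
The tori of maximal rank over a quasi-compact base form a quasi-compact set: they are conjugates of finitely
many families.
-/

set_option autoImplicit false
set_option linter.style.haveILetI false
universe u

open CategoryTheory CategoryTheory.Limits MonoidalCategory CartesianMonoidalCategory MonObj GrpObj AlgebraicGeometry
open Groth.Reductive Groth.Reductive.MTInt Groth.Misc15.MTSub Groth.Misc15.MTFin Groth.Reductive.RedRank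
open Groth.Misc15.HomMT

noncomputable section

namespace Groth.Misc15.MTTorus

variable {S : Scheme.{u}} {H G : Over S} [GrpObj H] [GrpObj G]

/-- Every homomorphism over a parameter scheme comes from a family. -/
theorem exists_family_of_hom {X : Over S} (u : Red.bc X.hom H ⟶ Red.bc X.hom G) [IsMonHom u] [Mono u] :
    ∃ φ : H ⊗ X ⟶ G, AutFam.IsHomFamily H G φ ∧ InjF φ := by
  let Z : Over X.left := 𝟙_ (Over X.left)
  let ψ : Red.bc X.hom H ⊗ Z ⟶ Red.bc X.hom G := fst _ _ ≫ u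
  let c : X ⟶ (Over.map X.hom).obj Z := Over.homMk (𝟙 _) (by
    show 𝟙 X.left ≫ 𝟙 X.left ≫ X.hom = X.hom
    simp)
  let φ := (H ◁ c) ≫ toS X.hom ψ
  have key : ∀ {W : Over S} (h : W ⟶ H) (t : W ⟶ X), ∃ (Y : Over X.left) (e : W ⟶ (Over.map X.hom).obj Y)
      (x : Y ⟶ Red.bc X.hom H), e ≫ bcPointEquiv X.hom H Y x = h ∧
      lift h t ≫ φ = e ≫ bcPointEquiv X.hom G Y (x ≫ u) := by
    intro W h t
    obtain ⟨d, hd⟩ := exists_over_pr t
    let Y : Over X.left := Over.mk t.left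
    let x := (bcPointEquiv X.hom H Y).symm (d.hom ≫ h)
    refine ⟨Y, d.inv, x, by rw [MulEquiv.apply_symm_apply, d.inv_hom_id_assoc], ?_⟩
    have h1 := point_toT X.hom x (toUnit Y) (toS X.hom ψ)
    rw [toT_toS, lift_fst_assoc, MulEquiv.apply_symm_apply] at h1
    have hc : (Over.map X.hom).map (toUnit Y) = (d.hom ≫ t) ≫ c := Over.OverMorphism.ext (by
      rw [hd]
      exact (Category.comp_id _).symm)
    rw [h1, hc, Category.assoc, ← comp_lift_assoc, d.inv_hom_id_assoc, lift_whiskerLeft_assoc]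
  have hψ : AutFam.IsHomFamily (Red.bc X.hom H) (Red.bc X.hom G) ψ := fun W a b t => by
    simp only [ψ, lift_fst_assoc, MonObj.mul_comp]
  have hS : AutFam.IsHomFamily H G (toS X.hom ψ) :=
    (isHomFamily_toT_iff X.hom _).1 (by rw [toT_toS]; exact hψ)
  refine ⟨φ, isHomFamily_whisker hS c, fun W t h e => ?_⟩
  obtain ⟨Y, i, x, hx, hlift⟩ := key h t
  obtain ⟨d, hd⟩ := exists_over_pr t
  rw [lift_whiskerLeft_assoc] at e
  let y := (bcPointEquiv X.hom H (Over.mk t.left)).symm (d.hom ≫ h)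
  have h1 := point_toT X.hom y (toUnit _) (toS X.hom ψ)
  rw [toT_toS, lift_fst_assoc, MulEquiv.apply_symm_apply] at h1
  have hc : (Over.map X.hom).map (toUnit (Over.mk t.left : Over X.left)) = (d.hom ≫ t) ≫ c :=
    Over.OverMorphism.ext (by
      rw [hd]
      exact (Category.comp_id _).symm)
  rw [hc, Category.assoc, ← comp_lift_assoc, e, MonObj.comp_one] at h1
  have h2 : y ≫ u = 1 := (bcPointEquiv X.hom G _).injective (by rw [h1, map_one])
  have h3 : y = 1 := by rw [← cancel_mono u, h2, MonObj.one_comp]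
  have h4 : d.hom ≫ h = 1 := by
    rw [← MulEquiv.apply_symm_apply (bcPointEquiv X.hom H _) (d.hom ≫ h)]
    exact (congrArg _ h3).trans (map_one _)
  rw [← Category.id_comp h, ← d.inv_hom_id, Category.assoc, h4, MonObj.comp_one]

omit [GrpObj H] in
/-- The conjugates of a family. -/
def conjFam {P : Over S} (υ : H ⊗ P ⟶ G) : H ⊗ (G ⊗ P) ⟶ G :=
  (snd H (G ⊗ P) ≫ fst G P) * ((H ◁ snd G P) ≫ υ) * (snd H (G ⊗ P) ≫ fst G P)⁻¹

omit [GrpObj H] in
theorem lift_conjFam {P W : Over S} (υ : H ⊗ P ⟶ G) (h : W ⟶ H) (t : W ⟶ G ⊗ P) :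
    lift h t ≫ conjFam υ = (t ≫ fst G P) * (lift h (t ≫ snd G P) ≫ υ) * (t ≫ fst G P)⁻¹ := by
  simp only [conjFam, MonObj.comp_mul, GrpObj.comp_inv, lift_snd_assoc, lift_whiskerLeft_assoc]

theorem isHomFamily_conjFam {P : Over S} {υ : H ⊗ P ⟶ G} (hυ : AutFam.IsHomFamily H G υ) :
    AutFam.IsHomFamily H G (conjFam υ) := fun W a b t => by
  simp only [lift_conjFam, hυ W a b (t ≫ snd G P)]
  simp [_root_.mul_assoc]

theorem injF_conjFam {P : Over S} {υ : H ⊗ P ⟶ G} (hi : InjF υ) : InjF (conjFam υ) := fun W t h e => by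
  rw [lift_conjFam] at e
  refine hi W (t ≫ snd G P) h ?_
  rw [mul_inv_eq_one] at e
  exact mul_eq_left.1 e

/-- Isomorphic character groups give isomorphic diagonalisable groups. -/
theorem exists_dsGrpIso (T : Scheme.{u}) {M N : Type} [AddCommGroup M] [AddCommGroup N] (a : M ≃+ N) :
    Nonempty (Grp.mk (Red.DS T M) ≅ Grp.mk (Red.DS T N)) := by
  let φ : Red.DS T M ≅ Red.DS T N :=
    ⟨dsHom _ a.symm.toAddMonoidHom, dsHom _ a.toAddMonoidHom, by
      rw [dsHom_comp_dsHom, show a.symm.toAddMonoidHom.comp a.toAddMonoidHom = AddMonoidHom.id M from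
        AddMonoidHom.ext fun t => a.symm_apply_apply t, dsHom_id], by
      rw [dsHom_comp_dsHom, show a.toAddMonoidHom.comp a.symm.toAddMonoidHom = AddMonoidHom.id _ from
        AddMonoidHom.ext fun t => a.apply_symm_apply t, dsHom_id]⟩
  haveI : IsMonHom φ.hom := Groth.AlgGrp1.isMonHom_of_points φ.hom fun W p q => dsHom_mul _ p q
  exact ⟨Grp.mkIso' φ⟩

variable {D : Pieces G} (X : Model D) [IsAffineHom G.hom] [Smooth G.hom] (i : Idx.{u}) {r : ℕ}
  (a : i.Λ ≃+ (Fin r → ℤ))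

include a in
/-- A geometric fibre with a maximal torus of rank `r` has a point of the piece. -/
theorem exists_point_piece (hOk : D.Ok i) (s : S) (h : HasMax r (Red.geomFibre s G)) :
    ∃ x : (D.P i).left, (D.P i).hom x = s := by
  obtain ⟨T, _, j, ⟨hm, hmo, -, -⟩, ⟨e⟩⟩ := h
  let W : Over S := Over.mk (Red.geomPt s)
  obtain ⟨d⟩ := exists_dsGrpIso (Spec (CommRingCat.of (AlgebraicClosure (S.residueField s)))) a
  obtain ⟨d'⟩ := isSplit_DS_bc (Red.geomPt s) i.Λ
  let w := d' ≪≫ d ≪≫ e.symm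
  haveI := hm; haveI := hmo
  let u : Red.bc W.hom (Red.DS S i.Λ) ⟶ Red.bc W.hom G := (isoOf w).hom ≫ j
  haveI : IsMonHom u := Groth.Abvar.isMonHom_comp (inferInstanceAs (IsMonHom w.hom.hom.hom)) hm
  haveI : Mono u := mono_comp _ _
  obtain ⟨φ, hφ, hi⟩ := exists_family_of_hom u
  obtain ⟨x, -, -⟩ := D.classify i hOk W φ hφ hi
  refine ⟨x.left (IsLocalRing.closedPoint _), ?_⟩
  rw [← Scheme.Hom.comp_apply, Over.w x]
  show (Red.geomPt s).base _ = s
  rw [Scheme.Hom.comp_apply, Scheme.fromSpecResidueField_apply]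

include a in
/-- Two points of the piece in a fibre of rank `r` differ by conjugation, up to the parametrisation. -/
theorem exists_conj_point {cm : G ⊗ D.P i ⟶ D.P i} (hcm : (D.H i ◁ cm) ≫ D.υ i = conjFam (D.υ i))
    (z₀ x₀ : (D.P i).left) (hzx : (D.P i).hom z₀ = (D.P i).hom x₀)
    (h : HasMax r (Red.geomFibre ((D.P i).hom x₀) G)) :
    ∃ y : (G ⊗ D.P i).left, (snd G (D.P i)).left y = x₀ ∧ (cm ≫ chart X i).left y = (chart X i).left z₀ := by
  obtain ⟨ζ, hζ₁, hζ₂⟩ := Scheme.Pullback.exists_preimage_pullback x₀ z₀ hzx.symm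
  let Z₀ := D.P i ⊗ D.P i
  let Ω := AlgebraicClosure (Z₀.left.residueField ζ)
  let W : Over S := Over.mk (Red.geomPt (S := Z₀.left) ζ ≫ Z₀.hom)
  let j : W ⟶ Z₀ := Over.homMk (Red.geomPt ζ) rfl
  have hj : j.left (IsLocalRing.closedPoint Ω) = ζ := by
    show (Red.geomPt ζ).base _ = ζ
    rw [Scheme.Hom.comp_apply, Scheme.fromSpecResidueField_apply]
  let u := j ≫ fst _ _
  let v := j ≫ snd _ _
  have hs : Z₀.hom.base ζ = (D.P i).hom x₀ := by
    rw [← hζ₁]
    exact congrArg (fun f : Z₀.left ⟶ S => f ζ) (Over.w (fst (D.P i) (D.P i))).symm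
  let GΩ : Over (Spec (CommRingCat.of Ω)) := Red.bc W.hom G
  have hmax : HasMax r GΩ := by
    obtain ⟨ψ, hψ, -⟩ := exists_geomPt_hom Z₀.hom ζ
    have h' : HasMax r (Red.geomFibre (Z₀.hom.base ζ) G) := by rw [hs]; exact h
    haveI : IsAffineHom (Red.geomFibre (Z₀.hom.base ζ) G).hom :=
      MorphismProperty.pullback_snd (P := @IsAffineHom) _ _ inferInstance
    haveI : IsAffine (Red.geomFibre (Z₀.hom.base ζ) G).left :=
      isAffine_of_isAffineHom (Red.geomFibre (Z₀.hom.base ζ) G).hom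
    haveI : Smooth (Red.geomFibre (Z₀.hom.base ζ) G).hom :=
      MorphismProperty.pullback_snd (P := @Smooth) _ _ inferInstance
    exact (h'.bc' ψ).congr (bcTwo ψ (Red.geomPt (Z₀.hom.base ζ)) _ hψ G)
  haveI : IsAffineHom GΩ.hom := MorphismProperty.pullback_snd (P := @IsAffineHom) _ _ inferInstance
  haveI : IsAffine GΩ.left := isAffine_of_isAffineHom GΩ.hom
  haveI : Smooth GΩ.hom := MorphismProperty.pullback_snd (P := @Smooth) _ _ inferInstance
  obtain ⟨T₀, _, i₀, hi₀, hr₀⟩ := hmax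
  have hsplit : SplitRank r (K := Ω) (Red.bc W.hom (D.H i)) := by
    obtain ⟨d⟩ := exists_dsGrpIso (Spec (CommRingCat.of Ω)) a
    obtain ⟨d'⟩ := isSplit_DS_bc W.hom i.Λ
    exact ⟨d' ≪≫ d⟩
  have hMax : ∀ t : W ⟶ D.P i,
      AGF.IsMaxTorus (T := Red.bc W.hom (D.H i)) (G := GΩ) (uOf ((D.H i ◁ t) ≫ D.υ i)) := fun t => by
    haveI := isMonHom_uOf (isHomFamily_whisker (D.hom i) t)
    haveI := mono_uOf (isHomFamily_whisker (D.hom i) t) ((D.inj i).comp t)
    exact isMaxTorus_of_rank hi₀ hr₀ _ hsplit le_rfl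
  obtain ⟨g, f, hf⟩ := Groth.Reductive.TorusConjEtale.exists_conj (hMax u) (hMax v)
  let P₁ : Over W.left := 𝟙_ (Over W.left)
  let e : W ⟶ (Over.map W.hom).obj P₁ := Over.homMk (𝟙 _) (by
    show 𝟙 W.left ≫ 𝟙 W.left ≫ W.hom = W.hom
    simp)
  let c : W ⟶ G := e ≫ bcPointEquiv W.hom G P₁ g
  let t : W ⟶ G ⊗ D.P i := lift c u
  refine ⟨t.left (IsLocalRing.closedPoint Ω), ?_, ?_⟩
  · rw [← Scheme.Hom.comp_apply, ← Over.comp_left, lift_snd, Over.comp_left, Scheme.Hom.comp_apply, hj]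
    exact hζ₁
  have key : (t ≫ cm) ≫ chart X i = v ≫ chart X i := by
    have hsame : D.Same ((t ≫ cm) ≫ D.inc i) (v ≫ D.inc i) := by
      rw [Pieces.same_inc_iff]
      intro Z tz g'
      obtain ⟨d, hd⟩ := exists_over_pr tz
      let Y : Over W.left := Over.mk tz.left
      have hpt : pr W Y ≫ c = bcPointEquiv W.hom G Y (toUnit Y ≫ g) := by
        rw [bcPointEquiv_comp]
        show pr W Y ≫ e ≫ _ = _
        rw [← Category.assoc]
        congr 1

      have hkey : ∀ y : Y ⟶ Red.bc W.hom (D.H i),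
          lift (bcPointEquiv W.hom (D.H i) Y y) (pr W Y) ≫ (D.H i ◁ (t ≫ cm)) ≫ D.υ i =
            lift (bcPointEquiv W.hom (D.H i) Y (y ≫ f.hom)) (pr W Y) ≫ (D.H i ◁ v) ≫ D.υ i := by
        intro y
        rw [← pt_uOf ((D.H i ◁ v) ≫ D.υ i), Category.assoc, hf, MonObj.comp_mul, MonObj.comp_mul,
          GrpObj.comp_inv, map_mul, map_mul, map_inv, ← Category.assoc y, toUnit_unique (y ≫ toUnit _) (toUnit Y),
          ← hpt, pt_uOf, whiskerLeft_comp_assoc, hcm, lift_whiskerLeft_assoc, lift_conjFam, lift_whiskerLeft_assoc]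
        simp only [t, Category.assoc, lift_fst, lift_snd]
      constructor
      · rintro ⟨h, rfl⟩
        let y := (bcPointEquiv W.hom (D.H i) Y).symm (d.hom ≫ h)
        refine ⟨d.inv ≫ bcPointEquiv W.hom (D.H i) Y (y ≫ f.hom), ?_⟩
        rw [← cancel_epi d.hom, comp_lift_assoc, comp_lift_assoc, d.hom_inv_id_assoc, hd, ← hkey,
          MulEquiv.apply_symm_apply]
      · rintro ⟨h, rfl⟩
        let y := (bcPointEquiv W.hom (D.H i) Y).symm (d.hom ≫ h)
        refine ⟨d.inv ≫ bcPointEquiv W.hom (D.H i) Y (y ≫ f.inv), ?_⟩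
        rw [← cancel_epi d.hom, comp_lift_assoc, comp_lift_assoc, d.hom_inv_id_assoc, hd, hkey, Category.assoc,
          f.inv_hom_id, Category.comp_id, MulEquiv.apply_symm_apply]
    have := X.eq_of_same hsame
    simpa only [chart, Category.assoc] using this
  have h2 := congrArg (fun m : W ⟶ X.M => m.left (IsLocalRing.closedPoint Ω)) key
  simp only [Over.comp_left, Scheme.Hom.comp_apply] at h2
  show (chart X i).left (cm.left _) = _
  rw [h2, show v.left (IsLocalRing.closedPoint Ω) = z₀ from ?_]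
  show (snd (D.P i) (D.P i)).left (j.left _) = z₀
  rw [hj]
  exact hζ₂

include a in
/-- Over a quasi-compact open of constant rank `r` the tori of rank `r` form a quasi-compact set. -/
theorem isCompact_part (hOk : D.Ok i) [Smooth (D.P i).hom] (V : S.Opens) (hV : IsCompact (V : Set S))
    (hmax : ∀ s ∈ V, HasMax r (Red.geomFibre s G)) :
    IsCompact ((imgOpen X i ⊓ X.M.hom ⁻¹ᵁ V : X.M.left.Opens) : Set X.M.left) := by
  obtain ⟨cm, hcm, -⟩ := D.classify i hOk (G ⊗ D.P i) (conjFam (D.υ i)) (isHomFamily_conjFam (D.hom i))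
    (injF_conjFam (D.inj i))
  have hpt : ∀ s : V, ∃ O : (D.P i).left.Opens, IsAffineOpen O ∧ O ≤ (D.P i).hom ⁻¹ᵁ V ∧
      s.1 ∈ (D.P i).hom '' (O : Set (D.P i).left) := fun s => by
    obtain ⟨x, hx⟩ := exists_point_piece i a hOk s.1 (hmax _ s.2)
    obtain ⟨O, hO, hxO, hOV⟩ := exists_isAffineOpen_mem_and_subset
      (U := (D.P i).hom ⁻¹ᵁ V) (show (D.P i).hom x ∈ V from hx ▸ s.2)
    exact ⟨O, hO, hOV, x, hxO, hx⟩
  choose O hO hOV hsO using hpt
  obtain ⟨F, hF⟩ := hV.elim_finite_subcover (fun s : V => (D.P i).hom '' (O s : Set (D.P i).left))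
    (fun s => (D.P i).hom.isOpenMap _ (O s).isOpen) fun s hs => Set.mem_iUnion.2 ⟨⟨s, hs⟩, hsO ⟨s, hs⟩⟩
  let p := (cm ≫ chart X i).left
  let pre : V → Set (G ⊗ D.P i).left := fun s => (snd G (D.P i)).left ⁻¹' (O s : Set (D.P i).left)
  have hc : IsCompact (⋃ s ∈ F, pre s) := F.isCompact_biUnion fun s _ => by
    haveI : IsAffineHom (snd G (D.P i)).left :=
      MorphismProperty.pullback_snd (P := @IsAffineHom) G.hom (D.P i).hom inferInstance
    exact ((hO s).preimage (snd G (D.P i)).left).isCompact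
  suffices he : ((imgOpen X i ⊓ X.M.hom ⁻¹ᵁ V : X.M.left.Opens) : Set X.M.left) = p '' (⋃ s ∈ F, pre s) by
    rw [he]
    exact hc.image p.continuous
  ext q
  constructor
  · rintro ⟨⟨z₀, hz₀⟩, hqV⟩
    have hsV : (D.P i).hom z₀ ∈ V := by
      rw [← Over.w (chart X i), Scheme.Hom.comp_apply, hz₀]
      exact hqV
    obtain ⟨s, hs, x₀, hx₀, hx₀z⟩ := Set.mem_iUnion₂.1 (hF hsV)
    obtain ⟨y, hy₁, hy₂⟩ := exists_conj_point X i a hcm z₀ x₀ hx₀z.symm (hmax _ (by rw [hx₀z]; exact hsV))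
    refine ⟨y, Set.mem_iUnion₂.2 ⟨s, hs, ?_⟩, hy₂.trans hz₀⟩
    show (snd G (D.P i)).left y ∈ O s
    rw [hy₁]
    exact hx₀
  · rintro ⟨y, hy, rfl⟩
    obtain ⟨s, -, hys⟩ := Set.mem_iUnion₂.1 hy
    refine ⟨⟨cm.left y, rfl⟩, ?_⟩
    show X.M.hom (p y) ∈ V
    have := hOV s hys
    rw [← Scheme.Hom.comp_apply, Over.w (cm ≫ chart X i), ← Over.w (snd G (D.P i))]
    exact this

end Groth.Misc15.MTTorus
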