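import Groth.Agent.Misc15.MTFin.Finite
import Groth.Agent.Misc15.MTSub.Lift
import Groth.Agent.Reductive.RedRankBC
import Groth.Agent.Reductive.RedRankEtale
import Groth.Agent.RedX.Conj
import Groth.Agent.GrpLim.Descend

/-!
Group isomorphisms attached to classified subgroups.
-/

set_option autoImplicit false
set_option linter.style.haveILetI false
universe u

open CategoryTheory CategoryTheory.Limits MonoidalCategory CartesianMonoidalCategory MonObj GrpObj AlgebraicGeometry
open Groth.Reductive Groth.Reductive.MTInt Groth.Misc15.MTSub Groth.Misc15.MTFin Groth.Reductive.RedRank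

noncomputable section

namespace Groth.Misc15.MTTorus

variable {S : Scheme.{u}} {G : Over S} [GrpObj G] {D : Pieces G} (X : Model D) [GrpObj X.Kun] [IsMonHom X.jun]

/-- A subgroup whose subscheme is a pullback of the universal one is isomorphic to it as a group. -/
theorem exists_grpIso {T : Scheme.{u}} {f : T ⟶ S} (w : T ⟶ X.M.left) (hw : w ≫ X.M.hom = f) {K' : Over T}
    [GrpObj K'] (j' : K' ⟶ Red.bc f G) [IsMonHom j'] [Mono j'] (φ : K'.left ≅ (Red.bc w X.Kun).left)
    (h₁ : φ.hom ≫ (Red.bc w X.Kun).hom = K'.hom)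
    (h₂ : φ.hom ≫ ((Over.pullback w).map X.jun).left ≫ pullback.fst (Red.bc X.M.hom G).hom w ≫
      pullback.fst G.hom X.M.hom = j'.left ≫ pullback.fst G.hom f) :
    Nonempty (Grp.mk K' ≅ Grp.mk (Red.bc w X.Kun)) := by
  subst hw
  haveI := X.isClosedImmersion_jun
  haveI : Mono X.jun := (Over.forget _).mono_of_mono_map (inferInstanceAs (Mono X.jun.left))
  haveI := Groth.Abvar.isMonHom_map (f := w) X.jun
  haveI := (Groth.Abvar.isMonHom_pullbackComp w X.M.hom G).1
  let j₁ : Red.bc w X.Kun ⟶ Red.bc (w ≫ X.M.hom) G :=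
    (Over.pullback w).map X.jun ≫ (Over.pullbackComp w X.M.hom).inv.app G
  haveI : IsMonHom j₁ := Groth.Abvar.isMonHom_comp inferInstance inferInstance
  haveI : Mono j₁ := inferInstance
  let e : K' ≅ Red.bc w X.Kun := Over.isoMk φ h₁
  have he : e.hom ≫ j₁ = j' := by
    refine Over.OverMorphism.ext (pullback.hom_ext ?_ ?_)
    · simp only [Over.comp_left, Category.assoc, j₁, Groth.GrpLim.pullbackComp_inv_fst]
      exact h₂
    · exact (Over.w (e.hom ≫ j₁)).trans (Over.w j').symm
  haveI : IsMonHom e.hom := Groth.AlgGrp1.isMonHom_of_points e.hom fun W a b => by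
    rw [← cancel_mono j₁, Category.assoc, he, MonObj.mul_comp, MonObj.mul_comp, Category.assoc, he,
      Category.assoc, he]
  exact ⟨Grp.mkIso' e⟩

/-- Over a piece the universal subgroup is diagonalisable. -/
theorem exists_grpIso_chart (hGa : IsAffineHom G.hom) (i : Idx.{u}) :
    Nonempty (Grp.mk (Red.bc (chart X i).left X.Kun) ≅ Grp.mk (Red.DS (D.P i).left i.Λ)) := by
  haveI := isMonHom_uOf (D.hom i)
  haveI := mono_uOf (D.hom i) (D.inj i)
  haveI : IsClosedImmersion (uOf (D.υ i)).left :=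
    isClosedImmersion_uOf (locTriv_DS' i.Λ) hGa (D.hom i) (D.inj i)
  obtain ⟨φ, hφ₁, hφ₂⟩ := (X.same_pts_iff_exists_iso (D.P i).hom (uOf (D.υ i)) (chart X i)).1 fun Z t g => by
    rw [kPts_subIncl_uOf_iff i t g]
    show _ ↔ KPts X.jK (t ≫ D.inc i ≫ X.q) g
    rw [← Category.assoc, X.pts, D.pts_inc_iff]
  obtain ⟨e⟩ := exists_grpIso X (chart X i).left (Over.w (chart X i)) (uOf (D.υ i)) φ hφ₁ hφ₂
  obtain ⟨d⟩ := isSplit_DS_bc (D.P i).hom i.Λ
  exact ⟨e.symm ≪≫ d⟩

omit [GrpObj X.Kun] [IsMonHom X.jun] in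
/-- The character group is determined by a field-valued point. -/
theorem addEquiv_of_iso {K : Type u} [Field K] {M N : Type} [AddCommGroup M] [AddCommGroup N]
    (e : Grp.mk (Red.DS (Spec (CommRingCat.of K)) M) ≅ Grp.mk (Red.DS (Spec (CommRingCat.of K)) N)) :
    Nonempty (N ≃+ M) := by
  haveI : IsMonHom (isoS e).hom := inferInstance
  obtain ⟨φ, -⟩ := Groth.RedX.exists_charEquiv (k := K) (isoS e).hom
  exact ⟨φ⟩

/-- Transport of a split base change. -/
theorem split_bc {T T' : Scheme.{u}} (c : T' ⟶ T) {A : Over T} [GrpObj A] {N : Type} [AddCommGroup N]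
    (e : Grp.mk A ≅ Grp.mk (Red.DS T N)) : Nonempty (Grp.mk (Red.bc c A) ≅ Grp.mk (Red.DS T' N)) := by
  obtain ⟨d⟩ := isSplit_DS_bc c N
  exact ⟨bcIso c e ≪≫ d⟩

/-- A field-valued point of a piece determines the type of the subgroup there. -/
theorem nonempty_addEquiv_of_point (hGa : IsAffineHom G.hom) (i : Idx.{u}) {K : Type u} [Field K]
    (z : Spec (CommRingCat.of K) ⟶ (D.P i).left) (m : Spec (CommRingCat.of K) ⟶ X.M.left)
    (hm : z ≫ (chart X i).left = m) {N : Type} [AddCommGroup N]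
    (h : Grp.mk (Red.bc m X.Kun) ≅ Grp.mk (Red.DS (Spec (CommRingCat.of K)) N)) : Nonempty (i.Λ ≃+ N) := by
  obtain ⟨e⟩ := exists_grpIso_chart X hGa i
  obtain ⟨e'⟩ := split_bc z e
  exact addEquiv_of_iso (h.symm ≪≫ (bcTwo z (chart X i).left m hm X.Kun).symm ≪≫ e')

/-- Rank of maximal tori of fibres along base change. -/
theorem hasMax_fibre_bc {W : Scheme.{u}} (f : W ⟶ S) [IsAffineHom G.hom] [Smooth G.hom] (w : W) {r : ℕ}
    (h : HasMax r (Red.geomFibre (f.base w) G)) : HasMax r (Red.geomFibre w (Red.bc f G)) := by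
  obtain ⟨ψ, hψ, -⟩ := exists_geomPt_hom f w
  haveI : IsAffineHom (Red.geomFibre (f.base w) G).hom :=
    MorphismProperty.pullback_snd (P := @IsAffineHom) _ _ inferInstance
  haveI : IsAffine (Red.geomFibre (f.base w) G).left :=
    isAffine_of_isAffineHom (Red.geomFibre (f.base w) G).hom
  haveI : Smooth (Red.geomFibre (f.base w) G).hom := MorphismProperty.pullback_snd (P := @Smooth) _ _ inferInstance
  exact (h.bc' ψ).congr (bcTwo ψ (Red.geomPt (f.base w)) _ hψ G ≪≫ (bcTwo (Red.geomPt w) f _ rfl G).symm)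

/-- The rank of the maximal tori of a fibre, computed on a base change. -/
theorem hasMax_of_fibre_bc {W : Scheme.{u}} (f : W ⟶ S) [IsAffineHom G.hom] [Smooth G.hom] (w : W) {r : ℕ}
    (h : HasMax r (Red.geomFibre w (Red.bc f G))) : HasMax r (Red.geomFibre (f.base w) G) := by
  obtain ⟨r', h'⟩ := exists_hasMax_fibre (G := G) (f.base w)
  haveI : IsAffineHom (Red.bc f G).hom := MorphismProperty.pullback_snd (P := @IsAffineHom) _ _ inferInstance
  haveI : IsAffineHom (Red.geomFibre w (Red.bc f G)).hom :=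
    MorphismProperty.pullback_snd (P := @IsAffineHom) (Red.bc f G).hom _ inferInstance
  haveI : IsAffine (Red.geomFibre w (Red.bc f G)).left :=
    isAffine_of_isAffineHom (Red.geomFibre w (Red.bc f G)).hom
  haveI : Smooth (Red.geomFibre w (Red.bc f G)).hom :=
    MorphismProperty.pullback_snd _ _ (MorphismProperty.pullback_snd (P := @Smooth) _ _ inferInstance)
  rwa [h.unique (hasMax_fibre_bc f w h')]

end Groth.Misc15.MTTorus
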