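import Groth.Agent.Misc15.MTTorus.GrpIso

/-!
The locus of maximal tori in the scheme of subgroups of multiplicative type.
-/

set_option autoImplicit false
set_option linter.style.haveILetI false
universe u

open CategoryTheory CategoryTheory.Limits MonoidalCategory CartesianMonoidalCategory MonObj GrpObj AlgebraicGeometry
open Groth.Reductive Groth.Reductive.MTInt Groth.Misc15.MTSub Groth.Misc15.MTFin Groth.Reductive.RedRank

noncomputable section

namespace Groth.Misc15.MTTorus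

variable {S : Scheme.{u}} {G : Over S} [GrpObj G]

/-- A group with maximal tori fpqc-locally has locally constant rank. -/
theorem isOpen_hasMax [IsAffineHom G.hom] [Smooth G.hom] (h : SGA3x.HasMaxTorusFpqcLocally G) (r : ℕ) :
    IsOpen {s : S | HasMax r (Red.geomFibre s G)} := by
  obtain ⟨S', f, hf, hs, hqc, T, _, i, hi⟩ := h
  haveI := hf
  refine Groth.Reductive.FreeDiag.isOpen_of_preimage f hqc ?_
  have e : f.base ⁻¹' {s : S | HasMax r (Red.geomFibre s G)} = {x : S' | SplitRank r (Red.geomFibre x T)} := by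
    ext x
    constructor
    · intro hx
      obtain ⟨r', hr'⟩ := exists_rank hi.2.2.1 x
      obtain ⟨r₀, h₀⟩ := exists_hasMax_fibre (G := G) (f.base x)
      have h1 := hasMax_of_fibre_bc f x (hasMax_of_isMaximalTorus hi x hr')
      haveI : IsAffineHom (Red.geomFibre (f.base x) G).hom :=
        MorphismProperty.pullback_snd (P := @IsAffineHom) _ _ inferInstance
      haveI : IsAffine (Red.geomFibre (f.base x) G).left :=
        isAffine_of_isAffineHom (Red.geomFibre (f.base x) G).hom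
      haveI : Smooth (Red.geomFibre (f.base x) G).hom :=
        MorphismProperty.pullback_snd (P := @Smooth) _ _ inferInstance
      exact (HasMax.unique hx h1) ▸ hr'
    · intro hx
      exact hasMax_of_fibre_bc f x (hasMax_of_isMaximalTorus hi x hx)
  exact e ▸ isOpen_rankLocus hi.2.2.1 r

/-- The locus of the base with a given rank of maximal tori. -/
def rankOpen [IsAffineHom G.hom] [Smooth G.hom] (h : SGA3x.HasMaxTorusFpqcLocally G) (r : ℕ) : S.Opens :=
  ⟨_, isOpen_hasMax h r⟩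

variable {D : Pieces G} (X : Model D) [IsAffineHom G.hom] [Smooth G.hom] (h : SGA3x.HasMaxTorusFpqcLocally G)

/-- The subgroups which are tori of the maximal rank. -/
def torOpen : X.M.left.Opens :=
  ⨆ (i : Idx.{u}) (r : ℕ) (_ : Nonempty (i.Λ ≃+ (Fin r → ℤ))), imgOpen X i ⊓ X.M.hom ⁻¹ᵁ rankOpen h r

theorem mem_torOpen {m : X.M.left} : m ∈ torOpen X h ↔ ∃ (i : Idx.{u}) (r : ℕ),
    Nonempty (i.Λ ≃+ (Fin r → ℤ)) ∧ m ∈ imgOpen X i ∧ HasMax r (Red.geomFibre (X.M.hom m) G) := by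
  simp only [torOpen, TopologicalSpace.Opens.mem_iSup]
  constructor
  · rintro ⟨i, r, hr, h1, h2⟩
    exact ⟨i, r, hr, h1, h2⟩
  · rintro ⟨i, r, hr, h1, h2⟩
    exact ⟨i, r, hr, h1, h2⟩

variable [GrpObj X.Kun] [IsMonHom X.jun]

/-- The universal maximal torus. -/
abbrev TorU : Over (torOpen X h : Scheme.{u}) := Red.bc (torOpen X h).ι X.Kun

/-- Its inclusion. -/
def iTorU : TorU X h ⟶ Red.bc ((torOpen X h).ι ≫ X.M.hom) G :=
  (Over.pullback (torOpen X h).ι).map X.jun ≫ (Over.pullbackComp (torOpen X h).ι X.M.hom).inv.app G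

instance isMonHom_iTorU : IsMonHom (iTorU X h) :=
  haveI := Groth.Abvar.isMonHom_map (f := (torOpen X h).ι) X.jun
  haveI := (Groth.Abvar.isMonHom_pullbackComp (torOpen X h).ι X.M.hom G).1
  Groth.Abvar.isMonHom_comp inferInstance inferInstance

instance mono_iTorU : Mono (iTorU X h) := by
  haveI := X.isClosedImmersion_jun
  haveI : Mono X.jun := (Over.forget _).mono_of_mono_map (inferInstanceAs (Mono X.jun.left))
  unfold iTorU
  infer_instance

theorem exists_split_chart (hGa : IsAffineHom G.hom) (x : (torOpen X h : Scheme.{u})) :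
    ∃ (r : ℕ) (V : Scheme.{u}) (q : V ⟶ (torOpen X h : Scheme.{u})) (y : V), Etale q ∧ q.base y = x ∧
      Red.IsSplitTorusWith (Fin r → ℤ) (Red.bc q (TorU X h)) ∧
      HasMax r (Red.geomFibre (((torOpen X h).ι ≫ X.M.hom).base x) G) := by
  obtain ⟨i, r, ⟨a⟩, ⟨z, hz⟩, hmax⟩ := (mem_torOpen X h).1 x.2
  let V : (D.P i).left.Opens := (chart X i).left ⁻¹ᵁ torOpen X h
  let q : (V : Scheme.{u}) ⟶ (torOpen X h : Scheme.{u}) := (chart X i).left ∣_ torOpen X h
  have hq : q ≫ (torOpen X h).ι = V.ι ≫ (chart X i).left := morphismRestrict_ι _ _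
  have hzV : z ∈ V := by
    show (chart X i).left z ∈ torOpen X h
    rw [hz]; exact x.2
  refine ⟨r, V, q, ⟨z, hzV⟩, IsZariskiLocalAtTarget.restrict (P := @Etale) inferInstance _,
    (torOpen X h).ι.isOpenEmbedding.injective ?_, ?_, hmax⟩
  · show (q ≫ (torOpen X h).ι).base ⟨z, hzV⟩ = _
    rw [hq]
    exact hz
  obtain ⟨e⟩ := exists_grpIso_chart X hGa i
  obtain ⟨e'⟩ := split_bc V.ι e
  let dA : Grp.mk (Red.DS (V : Scheme.{u}) i.Λ) ≅ Grp.mk (Red.DS (V : Scheme.{u}) (Fin r → ℤ)) := by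
    let φ : Red.DS (V : Scheme.{u}) i.Λ ≅ Red.DS (V : Scheme.{u}) (Fin r → ℤ) :=
      ⟨dsHom _ a.symm.toAddMonoidHom, dsHom _ a.toAddMonoidHom, by
        rw [dsHom_comp_dsHom, show a.symm.toAddMonoidHom.comp a.toAddMonoidHom = AddMonoidHom.id i.Λ from
          AddMonoidHom.ext fun t => a.symm_apply_apply t, dsHom_id], by
        rw [dsHom_comp_dsHom, show a.toAddMonoidHom.comp a.symm.toAddMonoidHom = AddMonoidHom.id _ from
          AddMonoidHom.ext fun t => a.apply_symm_apply t, dsHom_id]⟩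
    haveI : IsMonHom φ.hom := Groth.AlgGrp1.isMonHom_of_points φ.hom fun W p q => dsHom_mul _ p q
    exact Grp.mkIso' φ
  exact ⟨bcTwo q (torOpen X h).ι _ hq X.Kun ≪≫ (bcTwo V.ι (chart X i).left _ rfl X.Kun).symm ≪≫ e' ≪≫ dA⟩

theorem isTorus_TorU (hGa : IsAffineHom G.hom) : Red.IsTorus (TorU X h) := by
  choose r V q y hq hy hsplit _ using exists_split_chart X h hGa
  let f : (∐ V) ⟶ (torOpen X h : Scheme.{u}) := Sigma.desc q
  haveI := hq
  haveI : Etale f := IsZariskiLocalAtSource.sigmaDesc hq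
  haveI : Surjective f := ⟨fun x => ⟨Sigma.ι V x (y x), by
    rw [← Scheme.Hom.comp_apply, colimit.ι_desc]; exact hy x⟩⟩
  refine ⟨∐ V, f, inferInstance, inferInstance, fun W hW => ?_, fun u => ?_⟩
  · obtain ⟨W', hW', hWW⟩ := Groth.Pi1Desc.IsCover.exists_isCompact_image_eq f hW
    exact ⟨W', hW', hWW⟩
  obtain ⟨⟨x, v⟩, hv⟩ := (sigmaMk V).surjective u
  rw [sigmaMk_mk] at hv
  let O := (Sigma.ι V x).opensRange
  let ψ : (O : Scheme.{u}) ⟶ V x := (Sigma.ι V x).isoOpensRange.inv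
  obtain ⟨e⟩ := hsplit x
  obtain ⟨e'⟩ := split_bc ψ e
  refine ⟨O, ⟨v, hv⟩, r x, ⟨(bcTwo ψ (q x) _ ?_ (TorU X h)).symm ≪≫ e'⟩⟩
  rw [← Scheme.Hom.isoOpensRange_inv_comp (Sigma.ι V x), Category.assoc, colimit.ι_desc]
  rfl

theorem isMaximalTorus_iTorU (hGa : IsAffineHom G.hom) : Red.IsMaximalTorus (iTorU X h) := by
  refine ⟨inferInstance, inferInstance, isTorus_TorU X h hGa, fun x => ?_⟩
  obtain ⟨r, V, q, y, _, hy, hsplit, hmax⟩ := exists_split_chart X h hGa x
  have hrank := splitRank_of_chart (isTorus_TorU X h hGa) q hsplit y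
  rw [hy] at hrank
  let p := (torOpen X h).ι ≫ X.M.hom
  have hG := hasMax_fibre_bc p x hmax
  obtain ⟨T₀, _, i₀, hi₀, hr₀⟩ := hG
  haveI : IsAffineHom (Red.bc p G).hom := MorphismProperty.pullback_snd (P := @IsAffineHom) _ _ inferInstance
  haveI : IsAffineHom (Red.geomFibre x (Red.bc p G)).hom :=
    MorphismProperty.pullback_snd (P := @IsAffineHom) (Red.bc p G).hom _ inferInstance
  haveI : IsAffine (Red.geomFibre x (Red.bc p G)).left :=
    isAffine_of_isAffineHom (Red.geomFibre x (Red.bc p G)).hom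
  haveI : Smooth (Red.geomFibre x (Red.bc p G)).hom :=
    MorphismProperty.pullback_snd _ _ (MorphismProperty.pullback_snd (P := @Smooth) _ _ inferInstance)
  haveI := Groth.Abvar.isMonHom_map (f := Red.geomPt x) (iTorU X h)
  exact (isMaxTorus_of_rank hi₀ hr₀ ((Over.pullback (Red.geomPt x)).map (iTorU X h)) hrank le_rfl).2.2.2

theorem mem_torOpen_of_classifies (hGa : IsAffineHom G.hom) {T : Scheme.{u}} (f : T ⟶ S) {K' : Over T} [GrpObj K']
    (j' : K' ⟶ Red.bc f G) (hK' : Red.IsMaximalTorus j') (v : T ⟶ X.M.left) (hv : v ≫ X.M.hom = f)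
    (e : Grp.mk K' ≅ Grp.mk (Red.bc v X.Kun)) (x : T) : v x ∈ torOpen X h := by
  obtain ⟨r, hr⟩ := exists_rank hK'.2.2.1 x
  have hmax := hasMax_of_fibre_bc f x (hasMax_of_isMaximalTorus hK' x hr)
  obtain ⟨i, hi⟩ := exists_mem_imgOpen X (v x)
  obtain ⟨z, hz⟩ := hi
  refine (mem_torOpen X h).2 ⟨i, r, ?_, ⟨z, hz⟩, ?_⟩
  · obtain ⟨ζ, hζ₁, -⟩ := Scheme.Pullback.exists_preimage_pullback (f := v) (g := (chart X i).left) x z hz.symm
    let pf := pullback.fst v (chart X i).left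
    let ps := pullback.snd v (chart X i).left
    obtain ⟨ψ, hψ, -⟩ := exists_geomPt_hom pf ζ
    have hr' : SplitRank r (Red.bc ψ (Red.geomFibre (pf.base ζ) K')) := by
      refine SplitRank.bc ?_ ψ
      rw [hζ₁]; exact hr
    obtain ⟨e₁⟩ := hr'
    let m := Red.geomPt ζ ≫ pf ≫ v
    let E : Grp.mk (Red.bc m X.Kun) ≅ Grp.mk (Red.DS _ (Fin r → ℤ)) :=
      (bcTwo (Red.geomPt ζ ≫ pf) v m (Category.assoc _ _ _) X.Kun).symm ≪≫ bcIso _ e.symm ≪≫
        (bcTwo ψ (Red.geomPt (pf.base ζ)) _ hψ K').symm ≪≫ e₁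
    exact nonempty_addEquiv_of_point X hGa i (Red.geomPt ζ ≫ ps) m
      (by rw [Category.assoc, ← pullback.condition]) E
  · rw [← Scheme.Hom.comp_apply, hv]
    exact hmax

/-- The universal property. -/
theorem existsUnique_torus_point (hGa : IsAffineHom G.hom)
    (hOk : ∀ i : Idx.{u}, D.Ok i) (T : Scheme.{u}) (f : T ⟶ S) (K' : Over T) [GrpObj K']
    (j' : K' ⟶ Red.bc f G) (hK' : Red.IsMaximalTorus j') :
    ∃! v : T ⟶ (torOpen X h : Scheme.{u}), v ≫ (torOpen X h).ι ≫ X.M.hom = f ∧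
      ∃ φ : K'.left ≅ (Red.bc v (TorU X h)).left,
        φ.hom ≫ (Red.bc v (TorU X h)).hom = K'.hom ∧
        φ.hom ≫ ((Over.pullback v).map (iTorU X h)).left ≫ pullback.fst (Red.bc ((torOpen X h).ι ≫ X.M.hom) G).hom v ≫
            pullback.fst G.hom ((torOpen X h).ι ≫ X.M.hom) = j'.left ≫ pullback.fst G.hom f := by
  haveI := hK'.1
  haveI := hK'.2.1
  haveI : Mono j'.left := Over.mono_left_of_mono j'
  have hMT := Groth.Reductive.FreeDiag.isMultTypeFT_of_isTorus hK'.2.2.1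
  obtain ⟨v, hv, hvu⟩ := X.existsUnique_point f j' hMT fun _ _ _ _ i _ => hOk i
  obtain ⟨φ, hφ₁, hφ₂⟩ := (X.same_pts_iff_exists_iso f j' v).1 hv
  obtain ⟨e⟩ := exists_grpIso X v.left (Over.w v) j' φ hφ₁ hφ₂
  have hrange : Set.range v.left ⊆ Set.range (torOpen X h).ι := by
    rw [Scheme.Opens.range_ι]
    rintro _ ⟨x, rfl⟩
    exact mem_torOpen_of_classifies X h hGa f j' hK' v.left (Over.w v) e x
  let w := IsOpenImmersion.lift (torOpen X h).ι v.left hrange
  have hw : w ≫ (torOpen X h).ι = v.left := IsOpenImmersion.lift_fac _ _ _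
  refine ⟨w, ⟨by rw [← Category.assoc, hw]; exact Over.w v,
    exists_restrict X (torOpen X h).ι w v.left hw _ φ hφ₁ hφ₂⟩, ?_⟩
  rintro w' ⟨hw', φ', hφ'₁, hφ'₂⟩
  rw [← cancel_mono (torOpen X h).ι, hw]
  let wO : Over.mk f ⟶ X.M := Over.homMk (w' ≫ (torOpen X h).ι) (by rw [Category.assoc]; exact hw')
  refine congrArg CommaMorphism.left (hvu wO ((X.same_pts_iff_exists_iso f j' wO).2 ?_))
  exact exists_unrestrict X (torOpen X h).ι w' _ φ' hφ'₁ hφ'₂

end Groth.Misc15.MTTorus
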