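import Groth.Agent.Misc15.MTTorus.Affine
import Groth.Agent.Misc15.MTTorus.Conj
import Groth.Agent.Misc15.MTTorus.Locus
import Groth.Agent.Misc15.MTSub.UnivMT

/-!
The scheme of maximal tori of a smooth affine group is smooth and affine.
-/

set_option autoImplicit false
set_option linter.style.haveILetI false
universe u

open CategoryTheory CategoryTheory.Limits MonoidalCategory CartesianMonoidalCategory MonObj GrpObj AlgebraicGeometry
open Groth.Reductive Groth.Reductive.MTInt Groth.Misc15.MTSub Groth.Misc15.MTFin Groth.Reductive.RedRank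

noncomputable section

namespace Groth.Misc15.MTTorus

variable {S : Scheme.{u}} {G : Over S} [GrpObj G] [IsAffineHom G.hom] [Smooth G.hom]
  (h : SGA3x.HasMaxTorusFpqcLocally G)

/-- Over a rank `r` open the torus locus is the image of a single piece. -/
theorem torOpen_inf_eq {D : Pieces G} (X : Model D) (i : Idx.{u}) {r : ℕ} (a : i.Λ ≃+ (Fin r → ℤ))
    (V : S.Opens) (hV : ∀ s ∈ V, HasMax r (Red.geomFibre s G)) :
    torOpen X h ⊓ X.M.hom ⁻¹ᵁ V = imgOpen X i ⊓ X.M.hom ⁻¹ᵁ V := by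
  ext m
  constructor
  · rintro ⟨hm, hmV⟩
    obtain ⟨k, r', ⟨b⟩, ⟨y, hy⟩, hmax⟩ := (mem_torOpen X h).1 hm
    haveI : IsAffineHom (Red.geomFibre (X.M.hom m) G).hom :=
      MorphismProperty.pullback_snd (P := @IsAffineHom) _ _ inferInstance
    haveI : IsAffine (Red.geomFibre (X.M.hom m) G).left :=
      isAffine_of_isAffineHom (Red.geomFibre (X.M.hom m) G).hom
    haveI : Smooth (Red.geomFibre (X.M.hom m) G).hom :=
      MorphismProperty.pullback_snd (P := @Smooth) _ _ inferInstance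
    obtain rfl := hmax.unique (hV _ hmV)
    refine ⟨⟨(D.σ ⟨i, k, b.trans a.symm⟩).left y, ?_⟩, hmV⟩
    rw [← Scheme.Hom.comp_apply, ← Over.comp_left, chart_σ]
    exact hy
  · rintro ⟨hm, hmV⟩
    exact ⟨(mem_torOpen X h).2 ⟨i, r, ⟨a⟩, hm, hV _ hmV⟩, hmV⟩

include h in
/-- The scheme of maximal tori. -/
theorem exists_maxTori : ∃ (𝒯 : Over S) (Tu : Over 𝒯.left) (_ : GrpObj Tu) (iu : Tu ⟶ Red.bc 𝒯.hom G),
    SGA3x.RepresentsMaxTori G 𝒯 Tu iu ∧ Smooth 𝒯.hom ∧ IsAffineHom 𝒯.hom ∧ QuasiCompact 𝒯.hom := by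
  have hG : Smooth G.hom := inferInstance
  have hGa : IsAffineHom G.hom := inferInstance
  obtain ⟨D, hOk, hs⟩ := exists_pieces G hG hGa
  obtain ⟨X⟩ := exists_model D hG hGa
  obtain ⟨iK, hj⟩ := X.exists_grpObj_Kun
  letI := iK
  haveI := hj
  haveI : Smooth X.M.hom := Model.smooth_M D X hs
  let 𝒯 : Over S := Over.mk ((torOpen X h).ι ≫ X.M.hom)
  haveI haff : IsAffineHom 𝒯.hom := by
    have hV : ∀ s : S, ∃ V : S.Opens, s ∈ V ∧ IsAffineOpen V ∧ ∃ r, ∀ x ∈ V, HasMax r (Red.geomFibre x G) := by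
      intro s
      obtain ⟨r, hr⟩ := exists_hasMax_fibre (G := G) s
      obtain ⟨V, hV, hsV, hVr⟩ := exists_isAffineOpen_mem_and_subset
        (U := rankOpen h r) (show s ∈ rankOpen h r from hr)
      exact ⟨V, hsV, hV, r, fun x hx => hVr hx⟩
    choose V hsV hVa r hVr using hV
    refine IsZariskiLocalAtTarget.of_iSup_eq_top (P := @IsAffineHom) V
      (top_unique fun s _ => TopologicalSpace.Opens.mem_iSup.mpr ⟨s, hsV s⟩) fun s => ?_
    obtain ⟨i, ⟨a⟩⟩ := exists_idx.{u} (Fin (r s) → ℤ)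
    haveI := hs i
    let g := (hVa s).fromSpec
    have hg : g.opensRange = V s := (hVa s).opensRange_fromSpec
    have hc := isCompact_part X i a (hOk i) (V s) (hVa s).isCompact (hVr s)
    have hQ : IsAffineOpen (imgOpen X i ⊓ X.M.hom ⁻¹ᵁ V s) := by
      rw [← hg] at hc ⊢
      exact isAffineOpen_part X i (hOk i) g hc
    have hp : IsAffineOpen (𝒯.hom ⁻¹ᵁ V s) := by
      refine (torOpen X h).ι.isAffineOpen_iff_of_isOpenImmersion.1 ?_
      rw [← torOpen_inf_eq h X i a (V s) (hVr s)] at hQ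
      have e : (torOpen X h).ι ''ᵁ (𝒯.hom ⁻¹ᵁ V s) = torOpen X h ⊓ X.M.hom ⁻¹ᵁ V s :=
        (Scheme.Hom.image_preimage_eq_opensRange_inf _ (X.M.hom ⁻¹ᵁ V s)).trans (by rw [Scheme.Opens.opensRange_ι])
      rw [e]
      exact hQ
    haveI : IsAffine ((𝒯.hom ⁻¹ᵁ V s : 𝒯.left.Opens) : Scheme.{u}) := hp
    haveI : IsAffine (V s : Scheme.{u}) := hVa s
    exact inferInstance
  refine ⟨𝒯, TorU X h, inferInstance, iTorU X h,
    ⟨isMaximalTorus_iTorU X h hGa, fun T f K' _ j' hK' => ?_⟩,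
    inferInstanceAs (Smooth ((torOpen X h).ι ≫ X.M.hom)), haff, inferInstance⟩
  exact existsUnique_torus_point X h hGa hOk T f K' j' hK'

end Groth.Misc15.MTTorus
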