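import Groth.Agent.Misc15.MTTorus.Bound
import Groth.Agent.Misc15.MTSub.Invariant
import Groth.Agent.Misc15.MTFin.FieldKer

/-!
For families with bounded weights the locus of monomorphisms is closed.
-/

set_option autoImplicit false
set_option linter.style.haveILetI false
set_option synthInstance.maxHeartbeats 200000
universe u

open CategoryTheory CategoryTheory.Limits MonoidalCategory CartesianMonoidalCategory MonObj AlgebraicGeometry
open Groth.Reductive Groth.Reductive.FreeDiag Groth.Reductive.MTInt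
open Groth.GrassRep (Pt ptMap)

noncomputable section

namespace Groth.Misc15.MTTorus

open Groth.Misc15.SemilocInj Groth.Misc15.TorusDvr Groth.Misc15.HomMT Groth.Misc15.MTSub Groth.Misc15.MTFin

variable {S : Scheme.{u}} {R : Type u} [CommRing R] (g : Spec (CommRingCat.of R) ⟶ S) {M : Type}
  [AddCommGroup M] {G : Over S} [GrpObj G]

/-- The point of the trivial chart. -/
def toX₀ (Y : Over (Spec (CommRingCat.of R))) : Y ⟶ X₀ (R := R) R :=
  haveI := isIso_sp_id (R := R)
  Over.homMk (Y.hom ≫ inv (sp (A := R) (algebraMap R R)).hom) (by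
    rw [Category.assoc]
    exact (congrArg (Y.hom ≫ ·) (IsIso.inv_hom_id _)).trans (Category.comp_id _))

theorem eq_toX₀ {Y : Over (Spec (CommRingCat.of R))} (a : Y ⟶ X₀ (R := R) R) : a = toX₀ Y := by
  haveI := isIso_sp_id (R := R)
  refine Over.OverMorphism.ext ((cancel_mono (sp (A := R) (algebraMap R R)).hom).1 ?_)
  exact (Over.w a).trans (Over.w (toX₀ Y)).symm

variable [IsAffine (Red.bc g G).left] [Algebra.FinitePresentation R (Ob (Red.bc g G))]
  (F : FinComod R (Ob (Red.bc g G))) {W : Type u} [CommRing W] [Algebra R W]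
  {Φ : Ob (Red.bc g G) →ₐ[R] MonoidAlgebra W (Chr (dsChart (M := M) g))} (hΦ : IsFam Φ)

/-- The classifying point of a family. -/
def aFam : Pt (CommAlgCat.of R W) ⟶ P₀ F (dsChart (M := M) g) :=
  lift (eqvHomS F (CommAlgCat.of R W) ⟨Φ, hΦ⟩) (toX₀ _)

/-- A family on algebras as a family over the base. -/
def famS : Red.DS S M ⊗ (Over.map g).obj (Pt (CommAlgCat.of R W)) ⟶ G :=
  toS g ((Red.bc g (Red.DS S M) ◁ aFam g F hΦ) ≫ upsilon F (dsChart g))

theorem toT_famS : toT g (famS g F hΦ) = (Red.bc g (Red.DS S M) ◁ aFam g F hΦ) ≫ upsilon F (dsChart g) :=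
  toT_toS g _

theorem isHomFamily_famS : AutFam.IsHomFamily (Red.DS S M) G (famS g F hΦ) := by
  refine (isHomFamily_toT_iff g _).1 ?_
  rw [toT_famS]
  intro V x y t
  simp only [lift_whiskerLeft_assoc]
  exact isHomFamily_upsilon F _ V x y (t ≫ aFam g F hΦ)

theorem famS_key {C : Type u} [CommRing C] [Algebra R C] (f : W →ₐ[R] C)
    (χ : Chr (dsChart (M := M) g) →* C) (β : R →ₐ[R] C) :
    lift (bcPointEquiv g (Red.DS S M) _ ((ch (dsChart (M := M) g) β).symm χ))
        ((Over.map g).map (ptMap (A := CommAlgCat.of R W) (B := CommAlgCat.of R C) (CommAlgCat.ofHom f))) ≫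
      famS g F hΦ = 1 ↔
      (ev f χ).comp Φ = (Algebra.ofId R C).comp (Bialgebra.counitAlgHom R (Ob (Red.bc g G))) := by
  have hiff : ∀ a b : SemilocInj.Pt (Red.bc g G) C, a = b ↔ ptAlg a = ptAlg b :=
    fun a b => ⟨congrArg ptAlg, fun h => ptAlg_inj h⟩
  rw [← point_toT, toT_famS, ← map_one (bcPointEquiv g G _), (bcPointEquiv g G _).injective.eq_iff,
    lift_whiskerLeft_assoc, counit_ptAlg, hiff, ptAlg_upsilon]
  have hp : phiOf F (dsChart (M := M) g)
      ((ptMap (A := CommAlgCat.of R W) (B := CommAlgCat.of R C) (CommAlgCat.ofHom f) ≫ aFam g F hΦ) ≫ fst _ _) =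
      (MonoidAlgebra.mapAlgHom _ f).comp Φ := by
    rw [Category.assoc, aFam, lift_fst, ← eqvHomS_comp F (CommAlgCat.ofHom f) ⟨Φ, hΦ⟩]
    exact phiOf_eqv F _ _
  rw [hp, ← AlgHom.comp_assoc, ev_comp_mapAlgHom, AlgHom.id_comp,
    Subsingleton.elim (betaOf ((ptMap (A := CommAlgCat.of R W) (B := CommAlgCat.of R C) (CommAlgCat.ofHom f) ≫
      aFam g F hΦ) ≫ snd _ _)) β, MulEquiv.apply_symm_apply]

theorem quot_point_iff {C : Type u} [CommRing C] [Algebra R C] (β : R →ₐ[R] C)
    (χ : Chr (dsChart (M := M) g) →* C) (m : Multiplicative M) :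
    dsVal (bcPointEquiv g (Red.DS S M) _ ((ch (dsChart (M := M) g) β).symm χ)) m = 1 ↔ χ m = 1 := by
  set x := (ch (dsChart (M := M) g) β).symm χ with hx
  have h : (Scheme.ΓSpecIso (CommRingCat.of C)).hom (dsVal (bcPointEquiv g (Red.DS S M) _ x) m) = χ m := by
    show ch (dsChart (M := M) g) β x m = χ m
    rw [hx, MulEquiv.apply_symm_apply]
  rw [← h]
  constructor
  · intro h1
    rw [h1, map_one]
  · intro h1
    exact (ConcreteCategory.bijective_of_isIso (Scheme.ΓSpecIso (CommRingCat.of C)).hom).1 (h1.trans (map_one _).symm)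

/-- Injectivity over a field is the absence of proper quotients with trivial restriction. -/
theorem not_injF_iff (hGa : IsAffineHom G.hom) {E : Finset (Chr (dsChart (M := M) g))} (hs : Supp (genA F) Φ E)
    {K : Type u} [Field K] [Algebra R K] (f : W →ₐ[R] K) :
    ¬ InjF ((Red.DS S M ◁ (Over.map g).map (ptMap (A := CommAlgCat.of R W) (B := CommAlgCat.of R K)
        (CommAlgCat.ofHom f))) ≫ famS g F hΦ) ↔
      ∃ s : Finset (Chr (dsChart (M := M) g)), s ⊆ diffs E ∧
        Subgroup.closure (s : Set (Chr (dsChart (M := M) g))) ≠ ⊤ ∧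
        TrivFam (pushFam (QuotientGroup.mk' (Subgroup.closure (s : Set (Chr (dsChart (M := M) g)))))
          ((MonoidAlgebra.mapAlgHom _ f).comp Φ)) := by
  classical
  have hev : ∀ N : Subgroup (Chr (dsChart (M := M) g)),
      TrivFam (pushFam (QuotientGroup.mk' N) ((MonoidAlgebra.mapAlgHom _ f).comp Φ)) ↔
      (ev (MonoidAlgebra.singleOneAlgHom.comp f) ((MonoidAlgebra.of K _).comp (QuotientGroup.mk' N))).comp Φ =
        (Algebra.ofId R _).comp (Bialgebra.counitAlgHom R (Ob (Red.bc g G))) := fun N => by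
    rw [TrivFam, pushFam, mapDomainAlgHom_eq_ev, ← AlgHom.comp_assoc, ev_comp_mapAlgHom]
  let p : Spec (CommRingCat.of K) ⟶ S := (Pt (CommAlgCat.of R K)).hom ≫ g
  constructor
  · intro hn
    obtain ⟨N, hN, hk⟩ := exists_quot_of_not_injF (K := K) p
      (isHomFamily_whisker (isHomFamily_famS g F hΦ) _) hGa hn
    let N' : Subgroup (Chr (dsChart (M := M) g)) := AddSubgroup.toSubgroup N
    let j : K →ₐ[R] MonoidAlgebra K (Chr (dsChart (M := M) g) ⧸ N') := MonoidAlgebra.singleOneAlgHom
    let χ : Chr (dsChart (M := M) g) →* MonoidAlgebra K (Chr (dsChart (M := M) g) ⧸ N') :=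
      (MonoidAlgebra.of K _).comp (QuotientGroup.mk' N')
    let β : R →ₐ[R] MonoidAlgebra K (Chr (dsChart (M := M) g) ⧸ N') := Algebra.ofId R _
    have h1 := hk _ ((Over.map g).map (ptMap (A := CommAlgCat.of R K) (CommAlgCat.ofHom j)))
      (bcPointEquiv g (Red.DS S M) _ ((ch (dsChart (M := M) g) β).symm χ)) fun m hm => by
        rw [quot_point_iff]
        show MonoidAlgebra.of K _ (QuotientGroup.mk' N' (Multiplicative.ofAdd m)) = 1
        rw [show QuotientGroup.mk' N' (Multiplicative.ofAdd m) = 1 from (QuotientGroup.eq_one_iff _).2 hm, map_one]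
    rw [lift_whiskerLeft_assoc, ← Functor.map_comp, ← Groth.GrassRep.ptMap_comp, ← CommAlgCat.ofHom_comp,
      famS_key, ← hev] at h1
    refine ⟨(diffs E).filter (· ∈ N'), Finset.filter_subset _ _, fun htop => hN ?_, ?_⟩
    · refine eq_top_iff.2 fun m _ => ?_
      have hle : Subgroup.closure (((diffs E).filter (· ∈ N') : Finset _) : Set (Chr (dsChart (M := M) g))) ≤ N' :=
        (Subgroup.closure_le _).2 fun d hd => (Finset.mem_filter.1 hd).2
      exact hle (htop ▸ Subgroup.mem_top (Multiplicative.ofAdd m))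
    · exact trivFam_pushFam_closure F (hs.map _ f) N' h1 _ fun d hd hdN =>
        Finset.mem_coe.2 (Finset.mem_filter.2 ⟨hd, hdN⟩)
  · rintro ⟨s, -, hN, ht⟩ hinj
    apply hN
    let N' : Subgroup (Chr (dsChart (M := M) g)) := Subgroup.closure (s : Set (Chr (dsChart (M := M) g)))
    let j : K →ₐ[R] MonoidAlgebra K (Chr (dsChart (M := M) g) ⧸ N') := MonoidAlgebra.singleOneAlgHom
    let χ : Chr (dsChart (M := M) g) →* MonoidAlgebra K (Chr (dsChart (M := M) g) ⧸ N') :=
      (MonoidAlgebra.of K _).comp (QuotientGroup.mk' N')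
    let β : R →ₐ[R] MonoidAlgebra K (Chr (dsChart (M := M) g) ⧸ N') := Algebra.ofId R _
    have h1 := hinj _ ((Over.map g).map (ptMap (A := CommAlgCat.of R K) (CommAlgCat.ofHom j)))
      (bcPointEquiv g (Red.DS S M) _ ((ch (dsChart (M := M) g) β).symm χ)) (by
        rw [lift_whiskerLeft_assoc, ← Functor.map_comp, ← Groth.GrassRep.ptMap_comp, ← CommAlgCat.ofHom_comp,
          famS_key]
        exact (hev _).1 ht)
    refine eq_top_iff.2 fun m _ => ?_
    have h2 : χ m = 1 := (quot_point_iff g β χ m).1 (by rw [h1, dsVal_one])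
    rw [← map_one (MonoidAlgebra.of K (Chr (dsChart (M := M) g) ⧸ N'))] at h2
    exact (QuotientGroup.eq_one_iff m).1 (MonoidAlgebra.of_injective h2)

/-- The locus of monomorphisms of a family with bounded weights is closed. -/
theorem isClosed_monoLocus_famS (hGa : IsAffineHom G.hom) {E : Finset (Chr (dsChart (M := M) g))}
    (hs : Supp (genA F) Φ E) (U : ((Over.map g).obj (Pt (CommAlgCat.of R W))).left.Opens)
    (hU : ∀ a, a ∈ U ↔ Mono ((Over.pullback
      (((Over.map g).obj (Pt (CommAlgCat.of R W))).left.fromSpecResidueField a)).map (uOf (famS g F hΦ))).left) :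
    IsClosed (U : Set ((Over.map g).obj (Pt (CommAlgCat.of R W))).left) := by
  haveI := isMonHom_uOf (isHomFamily_famS g F hΦ)
  let A := (Over.map g).obj (Pt (CommAlgCat.of R W))
  suffices h : (U : Set A.left)ᶜ = ⋃ s ∈ {s : Finset (Chr (dsChart (M := M) g)) |
      s ⊆ diffs E ∧ Subgroup.closure (s : Set (Chr (dsChart (M := M) g))) ≠ ⊤},
      locus F (pushFam (QuotientGroup.mk' (Subgroup.closure (s : Set (Chr (dsChart (M := M) g))))) Φ) {1} by
    rw [← isOpen_compl_iff, h]
    exact isOpen_trivLocus F Φ E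
  ext a
  let κ : Type u := A.left.residueField a
  let fc : CommRingCat.of W ⟶ A.left.residueField a := Spec.preimage (A.left.fromSpecResidueField a)
  letI : Algebra R κ := (fc.hom.comp (algebraMap R W)).toAlgebra
  let f : W →ₐ[R] κ := { fc.hom with commutes' := fun _ => rfl }
  have hf : Spec.map (CommRingCat.ofHom f.toRingHom) = A.left.fromSpecResidueField a := Spec.map_preimage _
  have ha : PrimeSpectrum.comap f.toRingHom ⊥ = a := by
    have h1 := Scheme.fromSpecResidueField_apply (X := A.left) a (IsLocalRing.closedPoint _)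
    rw [← hf] at h1
    rw [show (⊥ : PrimeSpectrum κ) = IsLocalRing.closedPoint κ from Subsingleton.elim _ _]
    exact h1
  let t := (Over.map g).map (ptMap (A := CommAlgCat.of R W) (B := CommAlgCat.of R κ) (CommAlgCat.ofHom f))
  let T := (Over.map g).obj (Pt (CommAlgCat.of R κ))
  let T' := (Over.map A.hom).obj (Over.mk (A.left.fromSpecResidueField a))
  let c : T ≅ T' := Over.isoMk (Iso.refl _) (by
    show 𝟙 _ ≫ A.left.fromSpecResidueField a ≫ A.hom = T.hom
    rw [Category.id_comp, ← Over.w t]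
    exact congrArg (· ≫ A.hom) hf.symm)
  have hc : c.hom ≫ pr A (Over.mk (A.left.fromSpecResidueField a)) = t :=
    Over.OverMorphism.ext ((Category.id_comp _).trans hf.symm)
  have hinj : a ∈ U ↔ InjF ((Red.DS S M ◁ t) ≫ famS g F hΦ) := by
    rw [hU, mono_map_iff, kerTriv_uOf_iff]
    constructor
    · intro hi
      rw [← hc, whiskerLeft_comp_assoc]
      exact hi.comp c.hom
    · intro hi
      have := hi.comp c.inv
      rwa [← whiskerLeft_comp_assoc, ← hc, c.inv_hom_id_assoc] at this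
  rw [Set.mem_compl_iff, SetLike.mem_coe, hinj, not_injF_iff g F hΦ hGa hs f]
  constructor
  · rintro ⟨s, h1, h2, h3⟩
    refine Set.mem_iUnion₂.2 ⟨s, ⟨h1, h2⟩, ?_⟩
    have h4 := (mem_locus_iff F (isFam_pushFam hΦ (QuotientGroup.mk' (Subgroup.closure
      (s : Set (Chr (dsChart (M := M) g)))))) f).2 (by rw [mapAlgHom_pushFam]; exact h3)
    rwa [ha] at h4
  · intro h
    obtain ⟨s, ⟨h1, h2⟩, h3⟩ := Set.mem_iUnion₂.1 h
    refine ⟨s, h1, h2, ?_⟩
    have h4 : PrimeSpectrum.comap f.toRingHom ⊥ ∈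
        locus F (pushFam (QuotientGroup.mk' (Subgroup.closure (s : Set (Chr (dsChart (M := M) g))))) Φ) {1} := by
      rw [ha]; exact h3
    rw [mem_locus_iff F (isFam_pushFam hΦ _) f, mapAlgHom_pushFam] at h4
    exact h4

end Groth.Misc15.MTTorus
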